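import Cfsg.Agent.Lib.OddTransp84.Root.Suzuki

/-!
Automorphisms of a configuration generated by two points which fix a member of each of them: their
2-groups are cyclic.
-/

set_option autoImplicit false

namespace Cfsg.Agent.Lib.OddTransp84

open MulAction Cfsg.Agent.Lib Cfsg.Agent.Lib.FTDeps

universe u

/-- An element of odd order normalising a cyclic 2-subgroup centralises it. -/
lemma commute_of_odd_norm {G : Type*} [Group G] [Finite G] {A : Subgroup G} [IsCyclic A]
    (hA : IsPGroup 2 A) {k : G} (hk : Odd (orderOf k)) (hnorm : ∀ a ∈ A, k * a * k⁻¹ ∈ A)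
    {a : G} (ha : a ∈ A) : k * a * k⁻¹ = a := by
  have : Fact (Nat.Prime 2) := ⟨Nat.prime_two⟩
  have hkn : k ∈ Subgroup.normalizer (A : Set G) := by
    refine Subgroup.mem_normalizer_fintype hnorm
  set φ := Subgroup.normalizerMonoidHom A with hφ
  have h1 : orderOf (φ ⟨k, hkn⟩) ∣ orderOf k :=
    (orderOf_map_dvd φ _).trans (dvd_of_eq (Subgroup.orderOf_coe _).symm)
  have h2 : orderOf (φ ⟨k, hkn⟩) ∣ Nat.totient (Nat.card A) := by
    rw [← IsCyclic.card_mulAut]
    exact orderOf_dvd_natCard _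
  obtain ⟨n, hn⟩ := IsPGroup.iff_card.1 hA
  have h3 : orderOf (φ ⟨k, hkn⟩) = 1 := by
    rcases Nat.eq_zero_or_pos n with rfl | hn0
    · rw [hn, pow_zero, Nat.totient_one] at h2
      exact Nat.dvd_one.1 h2
    rw [hn, Nat.totient_prime_pow Nat.prime_two hn0, Nat.add_one_sub_one, mul_one] at h2
    exact Nat.Coprime.eq_one_of_dvd
      (Nat.Coprime.pow_right _ (Nat.coprime_two_right.2 (hk.of_dvd_nat h1))) h2
  rw [orderOf_eq_one_iff] at h3
  exact congrArg Subtype.val (DFunLike.congr_fun h3 (⟨a, ha⟩ : A))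

namespace Core.Conf

variable {G : Type u} [Group G] [Finite G] {D : Set G} {h : Conf D}

/-- In a group generated by two points any two points generate. -/
theorem line_eq_top (hI : BenderOne.PropSplit.{u}) (hgen : Subgroup.closure D = ⊤) {P R : h.Pt}
    (hne : P ≠ R) (hline : line P R = ⊤) {γ δ : h.Pt} (hγδ : γ ≠ δ) : line γ δ = ⊤ := by
  obtain ⟨-, hQ, hT, hneQ, hgenQ⟩ := exists_quotCenter hgen hne hline
  set π := QuotientGroup.mk' (Subgroup.center G) with hπ
  have hker : π.ker = Subgroup.center G := QuotientGroup.ker_mk' _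
  have hinj := qpt_injective (h := h) (hQ := hQ) hker.le
  obtain ⟨a, ha, ha1⟩ := exists_ne_one (qpt hQ P)
  obtain ⟨b, hb, hb1⟩ := exists_ne_one (qpt hQ R)
  obtain ⟨f, hf, -, -⟩ := swp_surj hneQ ha ha1 hb hb1
  obtain ⟨Q, hH, -⟩ := twoGen_types hI hT (twoGen_onePoint hI hT) hneQ hgenQ hf
  set a₀ := ((1 : G ⧸ Subgroup.center G) : (G ⧸ Subgroup.center G) ⧸
    stabilizer (G ⧸ Subgroup.center G) (qpt hQ P)) with ha₀
  have hmem : ∀ w : G ⧸ Subgroup.center G, w • a₀ = a₀ ↔ w • qpt hQ P = qpt hQ P := fun w => by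
    rw [ha₀, MulAction.Quotient.smul_mk, smul_eq_mul, mul_one, QuotientGroup.eq, mul_one,
      inv_mem_iff]
    rfl
  have key : ∀ ε : h.Pt, ε ≠ P → ∃ g : G, g • P = P ∧ g • R = ε := by
    intro ε hεP
    obtain ⟨z, hz⟩ := exists_smul (qpt hQ P) (qpt hQ ε)
    have hza : z • a₀ ≠ a₀ := fun e => hεP (hinj (hz.symm.trans ((hmem z).1 e)))
    obtain ⟨q, hqQ, hqe⟩ :=
      RankOne.Basic.Q_trans hH.setup (RankOne.Basic.t_smul_ne hH.setup) hza
    rw [← mul_smul, ← inv_smul_eq_iff, ← mul_smul, hmem, mul_smul, inv_smul_eq_iff, hz, mul_smul,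
      hf.2] at hqe
    have hqP := (hmem q).1 (RankOne.Basic.Q_fix hH.setup hqQ)
    obtain ⟨g, rfl⟩ := QuotientGroup.mk'_surjective (Subgroup.center G) q
    change π g • _ = _ at hqe hqP
    rw [qpt_smul] at hqe hqP
    exact ⟨g, hinj hqP, hinj hqe⟩
  obtain ⟨σ, hσ⟩ := exists_smul P γ
  obtain ⟨g, hgP, hgR⟩ := key (σ⁻¹ • δ) fun e => hγδ (by rw [← hσ, ← e, smul_inv_smul])
  have e1 : (σ * g) • P = γ := by rw [mul_smul, hgP, hσ]
  have e2 : (σ * g) • R = δ := by rw [mul_smul, hgR, smul_inv_smul]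
  rw [eq_top_iff]
  intro w _
  have h1 : (σ * g)⁻¹ * w * (σ * g) ∈ line P R := hline ▸ Subgroup.mem_top _
  have h2 := conj_mem_line (g := σ * g) h1
  rw [e1, e2] at h2
  simpa [mul_assoc] using h2

/-- A 2-group of automorphisms preserving the configuration and fixing members of two points is
cyclic. -/
theorem isCyclic_aut (hI : BenderOne.PropSplit.{u}) (hgen : Subgroup.closure D = ⊤) {P R : h.Pt}
    (hne : P ≠ R) (hline : line P R = ⊤) {A : Subgroup (MulAut G)} (hA : IsPGroup 2 A)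
    (hAD : ∀ α ∈ A, ∀ a ∈ D, α a ∈ D) {a b : G} (ha : a ∈ P) (ha1 : a ≠ 1) (hb : b ∈ R)
    (hb1 : b ≠ 1) (hfa : ∀ α ∈ A, α a = a) (hfb : ∀ α ∈ A, α b = b) : IsCyclic A := by
  classical
  obtain ⟨hDZ, -⟩ := exists_quotCenter hgen hne hline
  let Gs : Subgroup (MulAut G) :=
    { carrier := {α | ∀ x, x ∈ D ↔ α x ∈ D}
      one_mem' := fun x => Iff.rfl
      mul_mem' := fun {α β} hα hβ x => (hβ x).trans (hα (β x))
      inv_mem' := fun {α} hα x => ((hα (α⁻¹ x)).trans (by simp)).symm }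
  have hcj : ∀ g : G, MulAut.conj g ∈ Gs := fun g x =>
    ⟨fun hx => h.conj g x hx, fun hx => by simpa [mul_assoc] using h.conj g⁻¹ _ hx⟩
  set π : G →* Gs := (MulAut.conj (G := G)).codRestrict Gs hcj with hπ
  have hπv : ∀ g, (π g : MulAut G) = MulAut.conj g := fun g => rfl
  have hker : π.ker ≤ Subgroup.center G := fun z hz => Subgroup.mem_center_iff.2 fun y => by
    have e : z * y * z⁻¹ = y := by
      have := DFunLike.congr_fun (congrArg Subtype.val (MonoidHom.mem_ker.1 hz)) y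
      simpa [hπv] using this
    exact (mul_inv_eq_iff_eq_mul.1 e).symm
  have hK : Conf (π '' D) :=
    { sq := by rintro _ ⟨d, hd, rfl⟩; rw [← map_mul, h.sq d hd, map_one]
      ne := by rintro _ ⟨d, hd, rfl⟩ e; exact hDZ d hd (hker e)
      conj := by
        rintro α _ ⟨d, hd, rfl⟩
        refine ⟨(α : MulAut G) d, (α.2 d).1 hd, Subtype.ext ?_⟩
        ext y
        simp [hπv]
      trans := by
        rintro _ ⟨a, ha, rfl⟩ _ ⟨b, hb, rfl⟩ _ ⟨c, hc, rfl⟩ hab hbc
        exact (h.trans a ha b hb c hc (commute_of_map h hker ha hb hab)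
          (commute_of_map h hker hb hc hbc)).map π
      mul := by
        rintro _ ⟨a, ha, rfl⟩ _ ⟨b, hb, rfl⟩ hab hne
        exact ⟨a * b, h.mul a ha b hb (commute_of_map h hker ha hb hab) fun e => hne (e ▸ rfl),
          map_mul π a b⟩
      odd := by
        rintro _ ⟨a, ha, rfl⟩ _ ⟨b, hb, rfl⟩ hab
        rw [← map_mul]
        exact (h.odd a ha b hb fun e => hab (e.map π)).of_dvd_nat (orderOf_map_dvd π _)
      partner := by
        rintro _ ⟨d, hd, rfl⟩
        obtain ⟨e, he, hne, hc⟩ := h.partner d hd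
        refine ⟨π e, ⟨e, he, rfl⟩, fun e' => hDZ _ (h.mul e he d hd hc hne) (hker ?_), hc.map π⟩
        rw [MonoidHom.mem_ker, map_mul, e', ← map_mul, h.sq d hd, map_one] }
  have hinj := qpt_injective (h := h) (hQ := hK) hker
  have hN : NoEven hK := by
    intro P' R' hne' u hu hu1 hcP hcR
    obtain ⟨γ, rfl⟩ := qpt_surjective (h := h) (hQ := hK) P'
    obtain ⟨δ, rfl⟩ := qpt_surjective (h := h) (hQ := hK) R'
    have key : ∀ ε : h.Pt, u ∈ Subgroup.centralizer ((qpt hK ε).1 : Set Gs) →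
        ∀ y ∈ ε, (u : MulAut G) y = y := by
      intro ε hε y hy
      by_cases hy1 : y = 1
      · rw [hy1, map_one]
      have hyD := mem_D hy hy1
      have hy' : (u : MulAut G) y ∈ D := (u.2 y).1 hyD
      have e1 : π ((u : MulAut G) y) = π y := by
        have hc : π y * u = u * π y := Subgroup.mem_centralizer_iff.1 hε _ (mem_qpt hy)
        have e0 : π ((u : MulAut G) y) = u * π y * u⁻¹ := by
          refine Subtype.ext ?_
          ext z
          simp [hπv]
        rw [e0, ← hc, mul_inv_cancel_right]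
      by_contra hne2
      have hc : Commute ((u : MulAut G) y) y := commute_of_map h hker hy' hyD (e1 ▸ Commute.refl _)
      refine hDZ _ (h.mul _ hy' y hyD hc hne2) (hker ?_)
      rw [MonoidHom.mem_ker, map_mul, e1, ← map_mul, h.sq y hyD, map_one]
    apply hu1
    refine Subtype.ext (MulEquiv.ext fun y => ?_)
    have h1 : line γ δ ≤ MonoidHom.eqLocus (u : MulAut G).toMonoidHom (MonoidHom.id G) :=
      sup_le (fun y hy => key γ hcP y hy) (fun y hy => key δ hcR y hy)
    exact h1 (line_eq_top hI hgen hne hline (fun e => hne' (congrArg _ e)) ▸ Subgroup.mem_top y)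
  have hAGs : A ≤ Gs := fun α hα x => ⟨fun hx => hAD α hα x hx, fun hx => by
    have := hAD α⁻¹ (inv_mem hα) _ hx
    simpa using this⟩
  set e := Subgroup.subgroupOfEquivOfLe hAGs
  have : IsCyclic (A.subgroupOf Gs) := by
    refine isCyclic_two_stab (h := hK) hN (P := qpt hK P) (R := qpt hK R) (fun e' => hne (hinj e'))
      (hA.of_equiv e.symm) fun α hα => ?_
    have hfix : ∀ (ε : h.Pt) (c : G), c ∈ ε → c ≠ 1 → (α : MulAut G) c = c →
        α • qpt hK ε = qpt hK ε := fun ε c hc hc1 hcf => by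
      refine fix_of_commute (mem_qpt hc) (hK.ne _ ⟨c, mem_D hc hc1, rfl⟩) (Subtype.ext ?_)
      show (α : MulAut G) * MulAut.conj c = MulAut.conj c * (α : MulAut G)
      ext z
      simp [hcf]
    exact ⟨hfix P a ha ha1 (hfa _ hα), hfix R b hb hb1 (hfb _ hα)⟩
  exact isCyclic_of_surjective _ e.surjective

end Core.Conf

end Cfsg.Agent.Lib.OddTransp84
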