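import Cfsg.Agent.Lib.OddTransp84.Config

/-!
A single class of odd transpositions with trios: absorption of common neighbours, components of the
non-commuting graph, and generation by a neighbourhood and one further member.
-/

set_option autoImplicit false

namespace Cfsg.Agent.Lib.OddTransp84.Root

open Cfsg.Agent.Lib.OddTransp84

variable {G : Type*} [Group G] {D : Set G}

/-- Commuting is transitive on a set without non-commuting members with a common neighbour. -/
lemma trans_of_thin (ht : ¬ Thick D) {a b c : G} (ha : a ∈ D) (hb : b ∈ D) (hc : c ∈ D)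
    (hab : Commute a b) (hbc : Commute b c) : Commute a c := by
  by_contra h
  exact ht ⟨a, ha, c, hc, b, hb, hab.symm, hbc, h⟩

lemma base_ncard_nbhd_lt [Finite G] {b : G} (hb : b ∈ D) : (nbhd D b).ncard < D.ncard :=
  Set.ncard_lt_ncard (Set.ssubset_iff_exists.mpr ⟨fun _ h => h.1.1, b, hb,
    fun h => by obtain ⟨v, ⟨-, hvb⟩, hn⟩ := h.2; exact hn hvb⟩) (Set.toFinite _)

/-- If `f` commutes with `u` and with all common neighbours of `y` and `u`, it commutes with all
neighbours of `u`. -/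
theorem absorb [Finite G] (hD : Base D) {u y f : G} (hu : u ∈ D) (hy : y ∈ D) (hf : f ∈ D)
    (hyu : ¬ Commute y u) (hfu : Commute f u)
    (H : ∀ c ∈ D, Commute c y → Commute c u → Commute c f) :
    ∀ c ∈ D, Commute c u → Commute c f := by
  induction hn : D.ncard using Nat.strong_induction_on generalizing D with
  | _ n ih =>
  subst hn
  intro c hc hcu
  by_contra hcf
  have ht : Thick D := ⟨c, hc, f, hf, u, hu, hcu.symm, hfu.symm, hcf⟩
  obtain ⟨hC, hT⟩ := cfg_and_conn D hD
  obtain ⟨e₀, he₀, h0y, h0u⟩ := exists_common hC hy (hT ht y hy u hu)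
  by_cases hcy : Commute c y
  · exact hcf (H c hc hcy hcu)
  obtain ⟨e, he, hey, heu, hec⟩ : ∃ e ∈ D, Commute e y ∧ Commute e u ∧ Commute e c := by
    by_cases h : Commute e₀ c
    · exact ⟨e₀, he₀, h0y, h0u, h⟩
    · exact hC y hy e₀ he₀ u hu c hc h0y.symm h0u hcu.symm hyu h fun hh => hcy hh.symm
  have hef : Commute e f := H e he hey heu
  refine hcf (ih _ (base_ncard_nbhd_lt he) (hD.nbhd_base he)
    (hD.nbhd_mem hu hy heu.symm hey.symm hyu)
    (hD.nbhd_mem hy hu hey.symm heu.symm fun h => hyu h.symm)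
    (hD.nbhd_mem hf hc hef.symm hec.symm hcf)
    (fun c' hc' => H c' hc'.1.1) rfl c
    (hD.nbhd_mem hc hf hec.symm hef.symm fun h => hcf h.symm) hcu)

/-- Non-commuting members of `D`. -/
def Step (D : Set G) (a b : G) : Prop := a ∈ D ∧ b ∈ D ∧ ¬ Commute a b

/-- The component of `d` in the non-commuting graph. -/
def ncomp (D : Set G) (d : G) : Set G := {v | v ∈ D ∧ Relation.ReflTransGen (Step D) d v}

lemma ncomp_subset (D : Set G) (d : G) : ncomp D d ⊆ D := fun _ h => h.1

lemma self_mem_ncomp {d : G} (hd : d ∈ D) : d ∈ ncomp D d := ⟨hd, .refl⟩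

lemma ncomp_step {d a b : G} (ha : a ∈ ncomp D d) (hb : b ∈ D) (h : ¬ Commute a b) :
    b ∈ ncomp D d := ⟨hb, ha.2.tail ⟨ha.1, hb, h⟩⟩

lemma ncomp_comm {d a b : G} (ha : a ∈ ncomp D d) (hb : b ∈ D) (hb' : b ∉ ncomp D d) :
    Commute a b := by
  by_contra h
  exact hb' (ncomp_step ha hb h)

/-- A component is again a set of odd transpositions with trios. -/
lemma ncomp_base (hD : Base D) {d : G} : Base (ncomp D d) where
  inv a ha := hD.inv a ha.1
  ne a ha := hD.ne a ha.1
  conj a ha b hb := by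
    by_cases h : Commute a b
    · rwa [h.eq, hD.cancel_self ha.1]
    · refine ncomp_step ha (hD.conj a ha.1 b hb.1) fun hc => h ?_
      have := (commute_conj_iff a).mpr hc
      rwa [hD.conj_eq ha.1, hD.conj_eq ha.1, hD.inv a ha.1, one_mul, mul_assoc a b a,
        hD.self_cancel ha.1, hD.cancel_self ha.1] at this
  pair a ha b hb := hD.pair a ha.1 b hb.1
  trio y hy := by
    obtain ⟨v, hv, hvy⟩ := hD.nc y hy.1
    have hvc : v ∈ ncomp D d := ncomp_step hy hv fun h => hvy h.symm
    obtain ⟨y', hy', hne, hc, hm, he⟩ := hD.exists_partner hy.1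
    have he' := hD.eqv_trio hy.1 hm ((Commute.refl y).mul_right hc) (by
      rw [hD.self_cancel hy.1]; exact hy') v hv
    exact ⟨y', ncomp_step hvc hy' fun h => hvy ((he v hv).mpr h), hne, hc.symm,
      ncomp_step hvc hm fun h => hvy (he'.mpr h)⟩
  nc y hy := by
    obtain ⟨v, hv, hvy⟩ := hD.nc y hy.1
    exact ⟨v, ncomp_step hy hv fun h => hvy h.symm, hvy⟩

lemma Conjg.refl' (D : Set G) (a : G) : Conjg D a a := ⟨1, one_mem _, by group⟩

lemma ncomp_conjg (hD : Base D) {d : G} (hd : d ∈ D) :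
    ∀ a ∈ ncomp D d, ∀ b ∈ ncomp D d, Conjg (ncomp D d) a b := by
  have key : ∀ v, Relation.ReflTransGen (Step D) d v →
      v ∈ ncomp D d ∧ Conjg (ncomp D d) d v := by
    intro v h
    induction h with
    | refl => exact ⟨self_mem_ncomp hd, Conjg.refl' _ _⟩
    | tail _ h2 ih =>
      have hw := ncomp_step ih.1 h2.2.1 h2.2.2
      exact ⟨hw, ih.2.trans ((ncomp_base hD).conjg_of_not ih.1 hw h2.2.2)⟩
  exact fun a ha b hb => (key a ha.2).2.symm.trans (key b hb.2).2

lemma mid_mem {M : Subgroup G} {a b : G} (ha : a ∈ M) (hb : b ∈ M) : mid a b ∈ M :=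
  mul_mem (pow_mem (mul_mem ha hb) _) ha

/-- A neighbourhood and one further member generate everything. -/
theorem gen [Finite G] (hD : Base D) (hconj : ∀ a ∈ D, ∀ b ∈ D, Conjg D a b) (ht : Thick D)
    {d y : G} (hd : d ∈ D) (hy : y ∈ D) (hdy : ¬ Commute d y) :
    Subgroup.closure D ≤ Subgroup.closure ({c | c ∈ D ∧ Commute c d} ∪ {y}) := by
  induction hn : D.ncard using Nat.strong_induction_on generalizing D with
  | _ n ih =>
  subst hn
  set M := Subgroup.closure ({c | c ∈ D ∧ Commute c d} ∪ {y}) with hM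
  have hCM : ∀ c ∈ D, Commute c d → c ∈ M := fun c hc h => Subgroup.subset_closure (Or.inl ⟨hc, h⟩)
  have hdM : d ∈ M := hCM d hd (Commute.refl d)
  have hyM : y ∈ M := Subgroup.subset_closure (Or.inr rfl)
  let O : G → Prop := fun a => a ∈ D ∧ ∃ σ ∈ M, σ * d * σ⁻¹ = a
  have hOM : ∀ a, O a → a ∈ M := by
    rintro a ⟨-, σ, hσ, rfl⟩
    exact mul_mem (mul_mem hσ hdM) (inv_mem hσ)
  have hCO : ∀ a, O a → ∀ c ∈ D, Commute c a → c ∈ M := by
    rintro a ⟨-, σ, hσ, rfl⟩ c hc hca
    have hMD : M ≤ Subgroup.closure D := (Subgroup.closure_le _).2 (by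
      rintro w (⟨hw, -⟩ | rfl)
      exacts [Subgroup.subset_closure hw, Subgroup.subset_closure hy])
    have hc' := hD.conj_mem (inv_mem (hMD hσ)) hc
    have h1 : Commute (σ⁻¹ * c * σ⁻¹⁻¹) d := by
      rw [← commute_conj_iff σ]
      simpa [mul_assoc] using hca
    have h2 := mul_mem (mul_mem hσ (hCM _ hc' h1)) (inv_mem hσ)
    simpa [mul_assoc] using h2
  have hnc : ∀ a b, O a → b ∈ D → b ∈ M → ¬ Commute a b → O b := by
    rintro a b ha hb hbM hab
    obtain ⟨hm, h1, -⟩ := hD.mid_spec ha.1 hb hab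
    have hmM : mid a b ∈ M := mid_mem (hOM a ha) hbM
    obtain ⟨-, σ, hσ, rfl⟩ := ha
    refine ⟨hb, mid (σ * d * σ⁻¹) b * σ, mul_mem hmM hσ, ?_⟩
    conv_rhs => rw [← h1]
    rw [mul_inv_rev, hD.inv_self hm]
    simp [mul_assoc]
  have hOd : O d := ⟨hd, 1, one_mem _, by group⟩
  have hOy : O y := hnc d y hOd hy hyM hdy
  have hOeqv : ∀ a ∈ D, Eqv D d a → O a := fun a ha he =>
    hnc y a hOy ha (hCM a ha ((he a ha).mpr (Commute.refl a))) fun h => hdy ((he y hy).mpr h).symm
  obtain ⟨hC, hT⟩ := cfg_and_conn D hD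
  have hQy : ∀ r ∈ D, Commute r d → ¬ O r → ∀ a, O a → Commute a r := fun r hr hrd hr' a ha => by
    by_contra h
    exact hr' (hnc a r ha hr (hCM r hr hrd) h)
  -- members outside the orbit commuting with `d` commute with everything else
  let Q : G → Prop := fun r => r ∈ D ∧ Commute r d ∧ ¬ O r
  have hQ1 : ∀ r, Q r → ∀ c ∈ D, ¬ Q c → Commute c r := by
    rintro r ⟨hr, hrd, hr'⟩ c hc hQc
    by_cases hcd : Commute c d
    · exact hQy r hr hrd hr' c (not_not.1 fun h => hQc ⟨hc, hcd, h⟩)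
    by_contra hcr
    obtain ⟨a, ha, had, hac⟩ := exists_common hC hd (hT ht d hd c hc)
    obtain ⟨e, he, hec, hed, her⟩ : ∃ e ∈ D, Commute e c ∧ Commute e d ∧ Commute e r := by
      by_cases h : Commute a r
      · exact ⟨a, ha, hac, had, h⟩
      · exact hC c hc a ha d hd r hr hac.symm had hrd.symm hcd h hcr
    by_cases hOe : O e
    · exact hcr (hQy r hr hrd hr' c (hnc d c hOd hc (hCO e hOe c hc hec.symm) fun h => hcd h.symm))
    have hey : Commute y e := hQy e he hed hOe y hOy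
    have hry : Commute y r := hQy r hr hrd hr' y hOy
    set N := nbhd D e with hN
    have hNB : Base N := hD.nbhd_base he
    have hdN : d ∈ N := hD.nbhd_mem hd hy hed.symm hey fun h => hdy h.symm
    have hyN : y ∈ N := hD.nbhd_mem hy hd hey hed.symm hdy
    have hcN : c ∈ N := hD.nbhd_mem hc hr hec.symm her.symm fun h => hcr h.symm
    have hrN : r ∈ N := hD.nbhd_mem hr hc her.symm hec.symm hcr
    have hd1 : d ∈ ncomp N d := self_mem_ncomp hdN
    have hy1 : y ∈ ncomp N d := ncomp_step hd1 hyN hdy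
    have hc1 : c ∈ ncomp N d := ncomp_step hd1 hcN fun h => hcd h.symm
    have hr1 : r ∈ ncomp N d := ncomp_step hc1 hrN hcr
    have ht1 : Thick (ncomp N d) := ⟨d, hd1, y, hy1, r, hr1, hrd, hry.symm, hdy⟩
    have hlt : (ncomp N d).ncard < D.ncard := lt_of_le_of_lt
      (Set.ncard_le_ncard (ncomp_subset _ _) (Set.toFinite _)) (base_ncard_nbhd_lt he)
    have hle := ih _ hlt (ncomp_base hNB) (ncomp_conjg hNB hdN) ht1 hd1 hy1 rfl
    have hMle : Subgroup.closure ({c | c ∈ ncomp N d ∧ Commute c d} ∪ {y}) ≤ M :=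
      Subgroup.closure_mono (Set.union_subset_union_left _ fun w hw => ⟨hw.1.1.1.1, hw.2⟩)
    obtain ⟨σ, hσ, e'⟩ := ncomp_conjg hNB hdN d hd1 r hr1
    exact hr' ⟨hr, σ, hMle (hle hσ), e'⟩
  have hQ2 : ∀ σ ∈ Subgroup.closure D, ∀ r, Q r ↔ Q (σ * r * σ⁻¹) := by
    intro σ hσ
    induction hσ using Subgroup.closure_induction with
    | one => simp
    | mul p q _ _ hp hq =>
      intro r
      rw [hq r, hp]
      simp [mul_assoc]
    | inv p _ hp =>
      intro r
      rw [hp (p⁻¹ * r * p⁻¹⁻¹)]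
      simp [mul_assoc]
    | mem g hg =>
      have fwd : ∀ r, Q r → Q (g * r * g⁻¹) := by
        intro r hr
        by_cases h : Commute g r
        · rwa [h.eq, mul_inv_cancel_right]
        have hgQ : Q g := not_not.1 fun h' => h (hQ1 r hr g hg h')
        by_contra h'
        rw [hD.conj_eq hg] at h'
        have h2 := hQ1 g hgQ _ (hD.conj g hg r hr.1) h'
        have h3 := (commute_conj_iff g).mpr h2
        rw [hD.conj_eq hg, hD.conj_eq hg, hD.inv g hg, one_mul, mul_assoc g r g,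
          hD.self_cancel hg, hD.cancel_self hg] at h3
        exact h h3.symm
      intro r
      refine ⟨fwd r, fun h => ?_⟩
      have := fwd _ h
      rw [hD.conj_eq hg, hD.conj_eq hg, mul_assoc g r g, hD.self_cancel hg,
        hD.cancel_self hg] at this
      exact this
  have hQ : ∀ r ∈ D, Commute r d → O r := by
    intro r hr hrd
    by_contra hr'
    obtain ⟨σ, hσ, e⟩ := hconj r hr d hd
    have := (hQ2 σ hσ r).1 ⟨hr, hrd, hr'⟩
    rw [e] at this
    exact this.2.2 hOd
  rw [Subgroup.closure_le]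
  intro b hb
  have key : ∀ v, Reach D d v → O v := by
    intro v h
    induction h with
    | refl => exact hOd
    | @tail w w' _ h2 ih' =>
      obtain ⟨hvD, σ, hσ, rfl⟩ := ih'
      have hMD : M ≤ Subgroup.closure D := (Subgroup.closure_le _).2 (by
        rintro w (⟨hw, -⟩ | rfl)
        exacts [Subgroup.subset_closure hw, Subgroup.subset_closure hy])
      have hb' := hD.conj_mem (inv_mem (hMD hσ)) h2.2.1
      have h1 : Commute (σ⁻¹ * w' * σ⁻¹⁻¹) d := by
        rw [← commute_conj_iff σ]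
        simpa [mul_assoc] using h2.2.2.symm
      obtain ⟨-, τ, hτ, e⟩ := hQ _ hb' h1
      refine ⟨h2.2.1, σ * τ, mul_mem hσ hτ, ?_⟩
      rw [mul_inv_rev, show σ * τ * d * (τ⁻¹ * σ⁻¹) = σ * (τ * d * τ⁻¹) * σ⁻¹ by group, e]
      group
  exact hOM b (key b (hT ht d hd b hb))

end Cfsg.Agent.Lib.OddTransp84.Root
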