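import Mathlib

/-!
In `PSL₂` over a field of characteristic two elements of 2-power order have order at most two.
-/

set_option autoImplicit false

namespace Cfsg.Agent.Lib.OddTransp84.Root

open Matrix

variable {F : Type*} [Field F] [CharP F 2]

lemma sl_sq_of_four {A : Matrix (Fin 2) (Fin 2) F} (hdet : A.det = 1) (h : A * A * (A * A) = 1) :
    A * A = 1 := by
  have h2 : (2 : F) = 0 := by exact_mod_cast CharP.cast_eq_zero F 2
  rw [Matrix.det_fin_two] at hdet
  have e1 : A * A = (A 0 0 + A 1 1) • A + 1 := by
    ext i j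
    fin_cases i <;> fin_cases j <;>
      simp [Matrix.mul_apply, Fin.sum_univ_two, Matrix.smul_apply, Matrix.add_apply] <;>
      first | ring1 | linear_combination -hdet - h2
  set τ := A 0 0 + A 1 1 with hτ
  have e2 : A * A * (A * A) = (τ * τ) • (A * A) + 1 := by
    conv_lhs => rw [e1]
    rw [add_mul, mul_add, mul_add, smul_mul_smul_comm, one_mul, mul_one, mul_one]
    have : τ • A + τ • A = 0 := by
      rw [← add_smul, ← two_mul, h2, zero_mul, zero_smul]
    calc (τ * τ) • (A * A) + τ • A + (τ • A + 1) = (τ * τ) • (A * A) + (τ • A + τ • A) + 1 := by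
          abel
      _ = (τ * τ) • (A * A) + 1 := by rw [this, add_zero]
  rw [h, right_eq_add] at e2
  have h0 : τ = 0 := by
    by_contra hne
    have h3 : A * A = 0 := (smul_eq_zero.1 e2).resolve_left (mul_ne_zero hne hne)
    rw [h3, zero_mul] at h
    exact one_ne_zero (congrFun (congrFun h.symm 0) 0 |>.trans (by simp) : (1 : F) = 0)
  rw [e1, h0, zero_smul, zero_add]

/-- Elements of 2-power order of `PSL₂`, characteristic two, square to one. -/
theorem psl_sq_eq_one {g : ProjectiveSpecialLinearGroup (Fin 2) F} {i : ℕ} (h : g ^ 2 ^ i = 1) :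
    g * g = 1 := by
  induction g using QuotientGroup.induction_on with | _ A => ?_
  have hc : ∀ B : SpecialLinearGroup (Fin 2) F,
      B ∈ Subgroup.center (SpecialLinearGroup (Fin 2) F) → B = 1 := by
    intro B hB
    obtain ⟨r, hr, hrB⟩ := Matrix.SpecialLinearGroup.mem_center_iff.1 hB
    have h2 : (2 : F) = 0 := by exact_mod_cast CharP.cast_eq_zero F 2
    have hr' : r = 1 := by
      rw [Fintype.card_fin] at hr
      have h3 : (r - 1) * (r - 1) = 0 := by linear_combination hr - h2 * (r - 1)
      exact sub_eq_zero.1 (mul_self_eq_zero.1 h3)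
    refine Subtype.ext ?_
    rw [← hrB, hr', map_one]
    rfl
  have hA : A ^ 2 ^ i = 1 := hc _ ((QuotientGroup.eq_one_iff _).1 (by rw [QuotientGroup.mk_pow]; exact h))
  have key : ∀ j, A ^ 2 ^ j = 1 → A * A = 1 := by
    intro j
    induction j using Nat.strong_induction_on with
    | _ j ih =>
    intro hj
    rcases j with _ | _ | j
    · rw [pow_zero, pow_one] at hj; simp [hj]
    · simpa [pow_two] using hj
    · refine ih (j + 1) (by omega) ?_
      set B := A ^ 2 ^ j
      have e : A ^ 2 ^ (j + 1) = B * B := by
        rw [pow_succ, pow_mul, pow_two]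
      have e' : B * B * (B * B) = 1 := by
        rw [← e, ← pow_two, ← pow_mul, ← pow_succ]
        exact hj
      rw [e]
      apply Subtype.ext
      exact sl_sq_of_four B.2 (congrArg Subtype.val e')
  rw [← QuotientGroup.mk_mul, key i hA, QuotientGroup.mk_one]

end Cfsg.Agent.Lib.OddTransp84.Root
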