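import Cfsg.Agent.Lib.OddTransp84.Root.Suzuki
import Cfsg.Agent.Lib.OddTransp84.Root.Linear

/-!
In a group generated by two points either elements of 2-power order square into the centre, or the square
of the order of a point divides the order of the group.
-/

set_option autoImplicit false

namespace Cfsg.Agent.Lib.OddTransp84.Core.Conf

open MulAction Cfsg.Agent.Lib Cfsg.Agent.Lib.FTDeps

universe u

variable {G : Type u} [Group G] [Finite G] {D : Set G} {h : Conf D}

/-- Squares of 2-elements are central, or the square of the order of a point divides that of the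
group. -/
theorem sq_central_or_sq_dvd (hI : BenderOne.PropSplit.{u}) (hgen : Subgroup.closure D = ⊤)
    {P R : h.Pt} (hne : P ≠ R) (hline : line P R = ⊤) :
    (∀ (g : G) (i : ℕ), g ^ 2 ^ i = 1 → g * g ∈ Subgroup.center G) ∨
      Nat.card P.1 ^ 2 ∣ Nat.card G := by
  classical
  obtain ⟨hDZ, hQ, hT, hneQ, hgenQ⟩ := exists_quotCenter hgen hne hline
  set π := QuotientGroup.mk' (Subgroup.center G) with hπ
  have hker : π.ker = Subgroup.center G := QuotientGroup.ker_mk' _
  obtain ⟨a, ha, ha1⟩ := exists_ne_one (qpt hQ P)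
  obtain ⟨b, hb, hb1⟩ := exists_ne_one (qpt hQ R)
  obtain ⟨f, hf, -, -⟩ := swp_surj hneQ ha ha1 hb hb1
  obtain ⟨Q, -, -, -, hq, hcase⟩ := twoGen_types hI hT (twoGen_onePoint hI hT) hneQ hgenQ hf
  rcases hcase with ⟨-, -, F, iF, iT, hF, ⟨n, hn, hqn⟩, ⟨e⟩⟩ | ⟨hQcard, -⟩
  · left
    intro g i hi
    have : Fact (Nat.Prime 2) := ⟨Nat.prime_two⟩
    have hch : CharP F 2 := charP_of_card_eq_prime_pow (hF.trans hqn)
    set e' := Subgroup.topEquiv.symm.trans e
    have h1 : e' (π g) ^ 2 ^ i = 1 := by rw [← map_pow, ← map_pow, hi, map_one, map_one]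
    have h2 := Root.psl_sq_eq_one h1
    rw [← map_mul, ← map_mul] at h2
    rw [← hker, MonoidHom.mem_ker]
    exact e'.injective (h2.trans (map_one e').symm)
  · right
    have hcard : Nat.card (qpt hQ P).1 = Nat.card P.1 := by
      refine (Nat.card_eq_of_bijective
        (fun y : P.1 => (⟨π y, mem_qpt y.2⟩ : (qpt hQ P).1)) ⟨?_, ?_⟩).symm
      · rintro ⟨y, hy⟩ ⟨z, hz⟩ e
        have e' : π y = π z := congrArg Subtype.val e
        have hm : y * z ∈ π.ker := by
          rw [MonoidHom.mem_ker, map_mul, ← e', ← map_mul, sq_mem hy, map_one]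
        by_contra hne'
        have hyz : y * z ≠ 1 := fun e'' =>
          hne' (Subtype.ext ((eq_inv_of_mul_eq_one_left e'').trans (inv_mem_eq hz)))
        exact hDZ _ (mem_D (mul_mem_pt hy hz) hyz) (hker ▸ hm)
      · rintro ⟨y, hy⟩
        obtain ⟨z, hz, e⟩ := exists_of_mem_qpt hker.le hy
        exact ⟨⟨z, hz⟩, Subtype.ext e⟩
    rw [hq, hcard] at hQcard
    rw [← hQcard]
    exact (Subgroup.card_subgroup_dvd_card Q).trans (Subgroup.card_quotient_dvd_card _)

end Cfsg.Agent.Lib.OddTransp84.Core.Conf
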