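import Cfsg.Agent.Lib.OddTransp84.Root.Key
import Cfsg.Agent.Lib.OddTransp84.Root.Count
import Cfsg.Agent.Lib.OddTransp84.Core.Structure

/-!
Suzuki data on a thin line: the part of the class in the 2-core of the line is not centralised.
-/

set_option autoImplicit false

namespace Cfsg.Agent.Lib.OddTransp84.Root

open Cfsg.Agent.Lib.OddTransp84 Cfsg.Agent.Lib.OddTransp84.Reduction
open Cfsg.Agent.Lib.OddTransp84.Core Cfsg.Agent.Lib

universe u

variable {G : Type u} [Group G] [Finite G] {D : Set G}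

namespace TH

variable {d x r : G} (hT : TH D d x) (h : Std D) (hr : r ∈ D) (hrd : Commute r d) (hrx : Commute r x)
include hT h hr hrd hrx

/-- If the parts of the two points are central, so is the whole 2-core. -/
lemma pCore_central {t : G} (htl : t ∈ ln D d x r) (ht : t * d * t⁻¹ = x)
    (hcen : ∀ u ∈ lnV D d x r, u ∈ ab (nb D r d) d → Cent (ln D d x r) u) :
    Cfsg.pCore 2 ↥(ln D d x r) ≤ Subgroup.center ↥(ln D d x r) := by
  have hD := h.base
  have hth := hT.nb_thin h hr hrd hrx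
  have hd1 := hT.self_mem h.base hrd hrx
  have hcq : ∀ v ∈ lnV D d x r, ∀ c ∈ cq D r d, Commute v c := by
    intro v hv c hc
    obtain ⟨hc', hw⟩ := hT.cq_conjV h hr hrd hrx hc hv
    have hwd : v * c * v⁻¹ * c ∈ ab (nb D r d) d :=
      mul_mem (mem_ab hc'.1 hc'.2) (mem_ab hc.1 hc.2)
    have hcen' := hcen _ hw hwd
    have hcl : c ∈ ln D d x r := mem_clX_left hc
    have hnx : ∀ e ∈ cq D r d, ¬ Commute e x := fun e he hex => hT.nc (trans_of_thin hth hd1 he.1
      (hT.x_mem h.base hrd hrx) he.2.symm hex)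
    have h1 := eq_one_of_mul hD (nb_subset hc.1) (nb_subset hc'.1) hT.xmem (hnx c hc) (hnx _ hc')
      (show v * c * v⁻¹ = v * c * v⁻¹ * c * c by
        rw [mul_assoc (v * c * v⁻¹), hD.inv c (nb_subset hc.1), mul_one])
      (ab_sq (hT.nb_base h hr hrd hrx) hth hd1 hwd) (hcen' c hcl) (hcen' x mem_clX_right)
    refine mul_inv_eq_iff_eq_mul.1 ?_
    rw [eq_inv_of_mul_eq_one_left h1, hD.inv_self (nb_subset hc.1)]
  intro q hq
  have hqV : (q : G) ∈ lnV D d x r := ⟨q, hq, rfl⟩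
  have h1 : ln D d x r ≤ Subgroup.centralizer {(q : G)} := (Subgroup.closure_le _).2 (by
    rintro e (he | he)
    · exact Subgroup.mem_centralizer_singleton_iff.2 (hcq _ hqV e he).eq.symm
    · rw [Set.mem_singleton_iff.1 he]
      have h2 := (commute_conj_iff t).2 (hcq _ (hT.lnV_conj h (inv_mem htl) hqV) d
        (hT.d_mem_cq h hr hrd hrx))
      rw [ht, show t * (t⁻¹ * q * t⁻¹⁻¹) * t⁻¹ = (q : G) by group] at h2
      exact Subgroup.mem_centralizer_singleton_iff.2 h2.eq.symm)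
  exact Subgroup.mem_center_iff.2 fun w => Subtype.ext
    (Subgroup.mem_centralizer_singleton_iff.1 (h1 w.2))

/-- The line has no abelian quotient. -/
lemma commutator_ln : commutator ↥(ln D d x r) = ⊤ := by
  obtain ⟨hG, hcls⟩ := hT.gen_ln h hr hrd hrx
  rw [← Abelianization.ker_of, eq_top_iff, ← hG.gen, Subgroup.closure_le]
  obtain ⟨y, hy, hne, hc, hm, he⟩ := h.base.exists_partner hT.dmem
  set φ := Abelianization.of (G := ↥(ln D d x r))
  have hb : ∀ e ∈ orb (ln D d x r) x, φ e = φ ⟨x, mem_clX_right⟩ := fun e he => by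
    obtain ⟨g, hg⟩ := hG.conjg _ hG.xmem e he
    rw [← hg, map_mul, map_mul, mul_comm (φ g), mul_assoc, ← map_mul, mul_inv_cancel, map_one,
      mul_one]
  have hy' := hT.cls_sub_cq h hr hrd hrx (show y ∈ cls D d from ⟨hy, he⟩)
  have hdy := hT.cls_sub_cq h hr hrd hrx
    (h.mul_mem_cls hT.dmem (cls_self hT.dmem) (⟨hy, he⟩ : y ∈ cls D d) hne.symm)
  have h1 : φ ⟨x, mem_clX_right⟩ = 1 := by
    have e1 := hb _ (hcls _ hdy).1
    rw [show (⟨d * y, mem_clX_left hdy⟩ : ln D d x r)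
        = ⟨d, mem_clX_left (hT.d_mem_cq h hr hrd hrx)⟩ * ⟨y, mem_clX_left hy'⟩ from rfl,
      map_mul, hb _ hG.dmem, hb _ (hcls _ hy').1] at e1
    exact mul_eq_left.1 e1
  intro e he'
  refine MonoidHom.mem_ker.2 ?_
  rcases he' with he' | he'
  · rw [hb e he'.1, h1]
  · rw [Set.mem_singleton_iff.1 he', h1]

/-- The part of the class in the 2-core is not central. -/
theorem not_central (hI : BenderOne.PropSplit.{u}) {T : Subgroup G} {t : G}
    (hS : SzData D d x T t) :
    ∃ u ∈ lnV D d x r, u ∈ ab (nb D r d) d ∧ ¬ Cent (clX (cls D d) x) u := by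
  classical
  by_contra hall
  push Not at hall
  have hD := h.base
  have hd := hT.dmem
  have hth := hT.nb_thin h hr hrd hrx
  have hd1 := hT.self_mem h.base hrd hrx
  have hcen : ∀ u ∈ lnV D d x r, u ∈ ab (nb D r d) d → Cent (ln D d x r) u := fun u hu hud =>
    hT.cent_of_comm h hr hrd hrx hud (hall u hu hud x mem_clX_right)
  obtain ⟨hG, hcls⟩ := hT.gen_ln h hr hrd hrx
  set L := ln D d x r with hL
  set π := QuotientGroup.mk' (Cfsg.pCore 2 ↥L) with hπ
  have hker : π.ker = Cfsg.pCore 2 ↥L := QuotientGroup.ker_mk' _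
  have hZ : Cfsg.pCore 2 ↥L ≤ Subgroup.center ↥L := hT.pCore_central h hr hrd hrx
    (hT.t_mem_ln h hr hrd hrx hS) (by rw [hS.tconj, hS.tswap]) hcen
  -- the configuration
  obtain ⟨c, hc, hcd⟩ := hT.exists_third_point h hr hrd hrx
  obtain ⟨y, hy, hyne, hdyc, hdym, hye⟩ := hD.exists_partner hd
  have hycls : y ∈ cls D d := ⟨hy, hye⟩
  set yL : L := ⟨y, mem_clX_left (hT.cls_sub_cq h hr hrd hrx hycls)⟩ with hyL
  set dL : L := ⟨d, mem_clX_left (hT.d_mem_cq h hr hrd hrx)⟩ with hdL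
  have hdy := hT.cls_sub_cq h hr hrd hrx
    (h.mul_mem_cls hd (cls_self hd) hycls hyne.symm)
  have hQ := hG.quotient
  have hne₁ : π yL ≠ π dL := by
    intro e
    apply hQ.ne _ ⟨_, (hcls _ hdy).1, rfl⟩
    rw [show (⟨d * y, mem_clX_left hdy⟩ : L) = dL * yL from rfl]
    show π (dL * yL) = 1
    rw [map_mul, e, ← map_mul, hG.sq _ hG.dmem, map_one]
  obtain ⟨hC, hgenC, P, R, hne, hline⟩ := hQ.conf (Cores.pCore_quotient_pCore 2)
    (hG.map_mem_cls (hcls _ (hT.cls_sub_cq h hr hrd hrx hycls))) hne₁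
  -- the element squaring onto the class
  obtain ⟨g, hg, a, ha, z, hzc, hgg⟩ := hS.four
  obtain ⟨i, hi⟩ := hS.two ⟨g, hg⟩
  set gL : L := ⟨g, hT.T_le_ln h hr hrd hrx hS hg⟩ with hgL
  have hgi : gL ^ 2 ^ i = 1 := Subtype.ext (by simpa using congrArg Subtype.val hi)
  have hzl : z ∈ L := by
    rw [show z = a⁻¹ * (g * g) by rw [hgg, inv_mul_cancel_left]]
    exact mul_mem (inv_mem (mem_clX_left (hT.cls_sub_cq h hr hrd hrx ha))) (mul_mem gL.2 gL.2)
  set aL : L := ⟨a, mem_clX_left (hT.cls_sub_cq h hr hrd hrx ha)⟩ with haL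
  set zL : L := ⟨z, hzl⟩ with hzL
  set xL : L := ⟨x, mem_clX_right⟩ with hxL
  have hnax : ¬ Commute a x := fun e => hT.nc ((ha.2 x hT.xmem).2 e.symm).symm
  have hlin : ¬ Commute (π (gL * gL)) (π xL) := by
    intro e
    apply hnax
    rw [show gL * gL = aL * zL from Subtype.ext hgg, map_mul] at e
    have hzx : Commute (π zL) (π xL) := (show Commute zL xL from Subtype.ext (hzc x mem_clX_right)).map π
    have h1 : Commute (π aL) (π xL) := by
      have := e.mul_left hzx.inv_left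
      rwa [mul_inv_cancel_right] at this
    exact congrArg Subtype.val
      (hG.commute_of_map (hcls _ (hT.cls_sub_cq h hr hrd hrx ha)).1 hG.xmem h1).eq
  rcases Conf.linearOrSuzuki hI hgenC (Cores.pCore_quotient_pCore 2) hne hline with
    ⟨F, iF, iT, hch, -, -, ⟨e⟩⟩ | ⟨F, iF, iT, m, hm, hF, ⟨e⟩⟩
  · apply hlin
    have h1 : e (π gL) ^ 2 ^ i = 1 := by rw [← map_pow, ← map_pow, hgi, map_one, map_one]
    have h2 := psl_sq_eq_one h1
    rw [← map_mul, ← map_mul] at h2
    rw [show π (gL * gL) = 1 from e.injective (h2.trans (map_one e).symm)]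
    exact Commute.one_left _
  set σ := e.toMonoidHom.comp π with hσdef
  have hσker : σ.ker = Cfsg.pCore 2 ↥L := by
    rw [← hker]; ext w; simp [hσdef, MonoidHom.mem_ker]
  have hσ : Cfsg.IsStemExtension σ := by
    refine ⟨e.surjective.comp (QuotientGroup.mk'_surjective _), ?_, ?_⟩
    · rw [hσker]; exact hZ
    · rw [hT.commutator_ln h hr hrd hrx]; exact le_top
  rcases Nat.lt_or_ge m 2 with hm2 | hm2
  swap
  · -- trivial multiplier
    have hinj := Multiplier.injective_of_trivial (Cfsg.Agent.S2111.result hm2 hF) _ hσ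
    have hbot : Cfsg.pCore 2 ↥L = ⊥ := by rw [← hσker]; exact (MonoidHom.ker_eq_bot_iff σ).2 hinj
    obtain ⟨hC', -⟩ := hG.conf hbot (hcls _ (hT.cls_sub_cq h hr hrd hrx hycls))
      fun e' => hyne (congrArg Subtype.val e')
    have hcd' : d ≠ c := fun e' => hcd (e' ▸ Eqv.refl d)
    have hm' := hC'.mul _ hG.dmem ⟨c, mem_clX_left hc⟩ (hcls c hc).1 (Subtype.ext hc.2.symm)
      fun e' => hcd' (congrArg Subtype.val e')
    have hdc : d * c ∈ D := nb_subset (orb_mem (hT.nb_base h hr hrd hrx) (fun _ he => he.1)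
      (hT.x_mem h.base hrd hrx) hm')
    exact hcd (hD.eqv_trio hd (nb_subset hc.1) hc.2.symm hdc)
  obtain rfl : m = 1 := by omega
  rcases Conf.sq_central_or_sq_dvd hI hgenC hne hline with hsq | hdvd
  · apply hlin
    rw [map_mul]
    exact (Subgroup.mem_center_iff.1
      (hsq (π gL) i (by rw [← map_pow, hgi, map_one])) (π xL)).symm
  -- points have order at most eight
  have hs : LieTwisted.Suzuki.IsSzField F 1 := ⟨hF⟩
  have hP8 : Nat.card (hC.pt hQ.dmem).1 ≤ 8 := by
    rw [Nat.card_congr e.toEquiv,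
      ← Nat.card_congr (LieTwisted.Suzuki.szEquiv hs le_rfl).toEquiv, hs.card_group le_rfl, hF,
      Conf.card_pt_eq P (hC.pt hQ.dmem)] at hdvd
    norm_num at hdvd
    obtain ⟨j, -, hj⟩ := Conf.exists_pow (hC.pt hQ.dmem)
    have key : ∀ n j : ℕ, n = 2 ^ j → n ^ 2 ∣ 29120 → n ≤ 8 := by
      rintro _ j rfl h29
      by_contra hj3
      have hj4 : 4 ≤ j := by
        by_contra h4
        exact hj3 ((Nat.pow_le_pow_right (by norm_num) (by omega : j ≤ 3)).trans (by norm_num))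
      have h8 : 2 ^ 8 ∣ 29120 := by
        refine (pow_dvd_pow 2 (by omega : 8 ≤ j * 2)).trans ?_
        rwa [pow_mul]
      norm_num at h8
    exact key _ j hj hdvd
  -- two classes in one point
  have hc' : ∀ b ∈ cls D c, b ∈ cq D r d := by
    intro b hb
    refine ⟨nb_step hD (hT.x_mem hD hrd hrx) hb.1 ((hb.2 r hr).1 (nb_comm hc.1).symm).symm
      fun e' => ?_, ((hb.2 d hd).1 hc.2.symm).symm⟩
    exact hT.nc (trans_of_thin hth hd1 hc.1 (hT.x_mem hD hrd hrx) hc.2.symm
      ((hb.2 x hT.xmem).2 e').symm)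
  have hdcl : ∀ a ∈ cls D d, a ∈ cq D r d := fun a ha => hT.cls_sub_cq h hr hrd hrx ha
  have hsep : ∀ a (ha : a ∈ cls D d) b (hb : b ∈ cls D c), π ⟨a, mem_clX_left (hdcl a ha)⟩ ≠
      π ⟨b, mem_clX_left (hc' b hb)⟩ := by
    intro a ha b hb e'
    set bL : L := ⟨b, mem_clX_left (hc' b hb)⟩
    set aL : L := ⟨a, mem_clX_left (hdcl a ha)⟩
    have hm : b * a ∈ lnV D d x r := ⟨bL * aL, by
      rw [SetLike.mem_coe, ← hker, MonoidHom.mem_ker, map_mul, ← e', ← map_mul, hG.sq _ (hcls a (hdcl a ha)).1,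
        map_one], rfl⟩
    have hwd : b * a ∈ ab (nb D r d) d :=
      mul_mem (mem_ab (hc' b hb).1 (hc' b hb).2) (mem_ab (hdcl a ha).1 (hdcl a ha).2)
    have hw := hcen _ hm hwd
    have hnbx : ¬ Commute b x := fun e'' => hT.nc (trans_of_thin hth hd1 (hc' b hb).1
      (hT.x_mem hD hrd hrx) (hc' b hb).2.symm e'')
    have h1 := eq_one_of_mul hD ha.1 hb.1 hT.xmem (fun e'' => hT.nc ((ha.2 x hT.xmem).2 e''.symm).symm)
      hnbx (show b = b * a * a by rw [mul_assoc, hD.inv a ha.1, mul_one])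
      (ab_sq (hT.nb_base h hr hrd hrx) hth hd1 hwd) (hw a aL.2) (hw x mem_clX_right)
    rw [eq_inv_of_mul_eq_one_left h1, hD.inv_self ha.1] at hb
    exact hcd (ha.2.trans hb.2.symm)
  -- as subgroups they have at least four elements each
  set S1 : Set L := {w | (w : G) = 1 ∨ (w : G) ∈ cls D d} with hS1
  set S2 : Set L := {w | (w : G) = 1 ∨ (w : G) ∈ cls D c} with hS2
  have hmulS : ∀ e ∈ D, ∀ p q : L, ((p : G) = 1 ∨ (p : G) ∈ cls D e) →
      ((q : G) = 1 ∨ (q : G) ∈ cls D e) → ((p * q : L) : G) = 1 ∨ ((p * q : L) : G) ∈ cls D e := by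
    intro e he p q hp hq
    rw [Subgroup.coe_mul]
    rcases hp with hp | hp
    · rw [hp, one_mul]; exact hq
    rcases hq with hq | hq
    · rw [hq, mul_one]; exact Or.inr hp
    by_cases hpq : (p : G) = q
    · exact Or.inl (by rw [hpq]; exact hD.inv _ hq.1)
    · exact Or.inr (h.mul_mem_cls he hp hq hpq)
  have hsq2 : ∀ e ∈ D, ∀ p : L, ((p : G) = 1 ∨ (p : G) ∈ cls D e) → p * p = 1 := by
    intro e he p hp
    refine Subtype.ext ?_
    rcases hp with hp | hp
    · rw [Subgroup.coe_mul, hp, one_mul]; rfl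
    · exact hD.inv _ hp.1
  have hfour : ∀ e ∈ D, cls D e ⊆ (L : Set G) →
      4 ≤ ({w : L | (w : G) = 1 ∨ (w : G) ∈ cls D e}).ncard := by
    intro e he hsub
    obtain ⟨e', he', hne', -, hm', hee⟩ := hD.exists_partner he
    have hem := h.mul_mem_cls he (cls_self he) (⟨he', hee⟩ : e' ∈ cls D e) hne'.symm
    refine le_trans ?_ (Set.ncard_le_ncard (s := {1, (⟨e, hsub (cls_self he)⟩ : L),
      ⟨e', hsub ⟨he', hee⟩⟩, ⟨e * e', hsub hem⟩}) ?_ (Set.toFinite _))
    · have n1 := hD.ne e he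
      have n2 := hD.ne e' he'
      have n3 : e * e' ≠ 1 := hD.ne _ hem.1
      have n4 : e ≠ e * e' := fun e0 => n2 (left_eq_mul.1 e0)
      have n5 : e' ≠ e * e' := fun e0 => n1 (right_eq_mul.1 e0)
      rw [Set.ncard_insert_of_notMem, Set.ncard_insert_of_notMem, Set.ncard_insert_of_notMem,
        Set.ncard_singleton] <;>
        simp [Subtype.ext_iff, n1.symm, n2.symm, n3.symm, hne'.symm, n4, n5, -left_eq_mul,
          -right_eq_mul]
    · rintro w (rfl | rfl | rfl | rfl)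
      exacts [Or.inl rfl, Or.inr (cls_self he), Or.inr ⟨he', hee⟩, Or.inr hem]
  have hptmem : ∀ w : L, ((w : G) = 1 ∨ (w : G) ∈ cq D r d) → π w ∈ hC.pt hQ.dmem := by
    rintro w (hw | hw)
    · rw [show w = 1 from Subtype.ext hw, map_one]
      exact Conf.one_mem_pt _
    · refine (Conf.mem_iff_commute (Conf.mem_pt hQ.dmem) (hQ.ne _ hQ.dmem)
        ⟨w, (hcls _ hw).1, rfl⟩).2 ?_
      exact (show Commute w dL from Subtype.ext hw.2).map π
  have hS1cq : ∀ w ∈ S1, (w : G) = 1 ∨ (w : G) ∈ cq D r d := fun w hw => hw.imp_right (hdcl _)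
  have hS2cq : ∀ w ∈ S2, (w : G) = 1 ∨ (w : G) ∈ cq D r d := fun w hw => hw.imp_right (hc' _)
  let f : S1 × S2 → (hC.pt hQ.dmem).1 := fun p => ⟨π p.1.1 * π p.2.1,
    Conf.mul_mem_pt (hptmem _ (hS1cq _ p.1.2)) (hptmem _ (hS2cq _ p.2.2))⟩
  have hfi : Function.Injective f := by
    rintro ⟨⟨p, hp⟩, ⟨q, hq⟩⟩ ⟨⟨p', hp'⟩, ⟨q', hq'⟩⟩ e'
    have e2 : π p * π q = π p' * π q' := congrArg Subtype.val e'
    have e3 : π (p' * p) = π (q' * q) := by
      rw [map_mul, map_mul]
      calc π p' * π p = π p' * (π p * π q) * π q := by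
            rw [mul_assoc (π p') (π p * π q), mul_assoc (π p) (π q), ← map_mul _ q q,
              hsq2 c (nb_subset hc.1) q hq, map_one, mul_one]
        _ = π (p' * p') * π q' * π q := by rw [e2, map_mul]; group
        _ = π q' * π q := by rw [hsq2 d hd p' hp', map_one, one_mul]
    have hnot : ∀ w : L, π w = 1 → (w : G) ∈ cq D r d → False := fun w hw hw' =>
      hT.cq_notV h hr hrd hrx hw' ⟨w, hker ▸ MonoidHom.mem_ker.2 hw, rfl⟩
    rcases hmulS d hd p' p hp' hp with h1 | h1 <;>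
      rcases hmulS c (nb_subset hc.1) q' q hq' hq with h2 | h2
    · have ep : p = p' := Subtype.ext (by
        have : ((p' * p' : L) : G) = 1 := congrArg Subtype.val (hsq2 d hd p' hp')
        exact mul_left_cancel (h1.trans this.symm))
      have eq' : q = q' := Subtype.ext (by
        have : ((q' * q' : L) : G) = 1 := congrArg Subtype.val (hsq2 c (nb_subset hc.1) q' hq')
        exact mul_left_cancel (h2.trans this.symm))
      subst ep eq'
      rfl
    · exact (hnot _ (e3.symm.trans (by rw [show p' * p = 1 from Subtype.ext h1, map_one])) (hc' _ h2)).elim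
    · exact (hnot _ (e3.trans (by rw [show q' * q = 1 from Subtype.ext h2, map_one])) (hdcl _ h1)).elim
    · exact (hsep _ h1 _ h2 e3).elim
  have hcardf := Nat.card_le_card_of_injective f hfi
  rw [Nat.card_prod, Nat.card_coe_set_eq, Nat.card_coe_set_eq] at hcardf
  have h1 := hfour d hd fun e he => mem_clX_left (hdcl e he)
  have h2 := hfour c (nb_subset hc.1) fun e he => mem_clX_left (hc' e he)
  nlinarith

end TH

end Cfsg.Agent.Lib.OddTransp84.Root
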