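import Cfsg.Agent.Lib.OddTransp84.Root.Basic
import Cfsg.Agent.Lib.OddTransp84.Reduction
import Cfsg.Agent.Lib.OddTransp84.Core.Main

/-!
A single class of odd transpositions with trios in a group without normal 2-subgroup: the members with
the same commuting members form, with `1`, a subgroup; with one further member they give a
configuration generated by two points.
-/

set_option autoImplicit false

namespace Cfsg.Agent.Lib.OddTransp84.Root

open Cfsg.Agent.Lib.OddTransp84 Cfsg.Agent.Lib.OddTransp84.Reduction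

universe u

variable {G : Type u} [Group G]

/-- The group generated by a set of members and one further member. -/
def clX (E : Set G) (x : G) : Subgroup G := Subgroup.closure (E ∪ {x})

lemma mem_clX_left {E : Set G} {x e : G} (he : e ∈ E) : e ∈ clX E x :=
  Subgroup.subset_closure (Or.inl he)

lemma mem_clX_right {E : Set G} {x : G} : x ∈ clX E x := Subgroup.subset_closure (Or.inr rfl)

/-- The conjugates of `x` in a subgroup. -/
def orb (X : Subgroup G) (x : G) : Set X := {a | ∃ g : X, (g : G) * x * (g : G)⁻¹ = a}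

section Sub

variable {S E : Set G} {d x : G}

lemma clX_le (hE : E ⊆ S) (hx : x ∈ S) : clX E x ≤ Subgroup.closure S :=
  Subgroup.closure_mono (Set.union_subset hE (Set.singleton_subset_iff.2 hx))

lemma orb_mem (hS : Base S) (hE : E ⊆ S) (hx : x ∈ S) {a : clX E x} (ha : a ∈ orb (clX E x) x) :
    (a : G) ∈ S := by
  obtain ⟨g, e⟩ := ha
  rw [← e]
  exact hS.conj_mem (clX_le hE hx g.2) hx

lemma mem_orb (hS : Base S) (hE : E ⊆ S) (hx : x ∈ S) {e : G} (he : e ∈ E) (hn : ¬ Commute x e) :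
    (⟨e, mem_clX_left he⟩ : clX E x) ∈ orb (clX E x) x := by
  obtain ⟨h, ⟨g, hg⟩, hh, -, -⟩ := exists_swap (a := (⟨x, mem_clX_right⟩ : clX E x))
    (b := ⟨e, mem_clX_left he⟩) (Subtype.ext (hS.inv x hx)) (Subtype.ext (hS.inv e (hE he)))
    (by rw [← Subgroup.orderOf_coe]; exact hS.odd_of_not hx (hE he) hn)
  have hi : h⁻¹ = h :=
    inv_eq_of_mul_eq_one_right (hg ▸ conj_sq (Subtype.ext (hS.inv x hx)) g)
  refine ⟨h, ?_⟩
  rw [show ((h : clX E x) : G)⁻¹ = (h : G) from congrArg Subtype.val hi]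
  exact congrArg Subtype.val hh

/-- The standing situation of the reduction, inside a set of odd transpositions with trios. -/
theorem gen_sub (hS : Base S) (hE : E ⊆ S) (hd : d ∈ E) (hx : x ∈ S)
    (heqv : ∀ e ∈ E, ∀ v : clX E x, v ∈ orb (clX E x) x →
      (Commute (v : G) d ↔ Commute (v : G) e))
    (hnc : ¬ Commute d x) :
    Gen (orb (clX E x) x) (⟨d, mem_clX_left hd⟩ : clX E x) ⟨x, mem_clX_right⟩ ∧
      ∀ e (he : e ∈ E), (⟨e, mem_clX_left he⟩ : clX E x) ∈
        cls (orb (clX E x) x) (⟨d, mem_clX_left hd⟩ : clX E x) := by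
  set X := clX E x
  have hxo : (⟨x, mem_clX_right⟩ : X) ∈ orb X x := ⟨1, by simp⟩
  have hn : ∀ e ∈ E, ¬ Commute x e := fun e he hc =>
    hnc ((heqv e he _ hxo).2 hc).symm
  have hcls : ∀ e (he : e ∈ E), (⟨e, mem_clX_left he⟩ : X) ∈
      cls (orb X x) (⟨d, mem_clX_left hd⟩ : X) := fun e he =>
    ⟨mem_orb hS hE hx he (hn e he), fun v hv =>
      ⟨fun hc => Subtype.ext ((heqv e he v hv).1 (congrArg Subtype.val hc.eq)).eq,
        fun hc => Subtype.ext ((heqv e he v hv).2 (congrArg Subtype.val hc.eq)).eq⟩⟩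
  refine ⟨⟨fun a ha => Subtype.ext (hS.inv _ (orb_mem hS hE hx ha)),
    fun a ha e => hS.ne _ (orb_mem hS hE hx ha) (congrArg Subtype.val e), ?_, ?_, ?_,
    (hcls d hd).1, hxo, ?_, fun hc => hnc (congrArg Subtype.val hc.eq)⟩, hcls⟩
  · rintro g a ⟨k, hk⟩
    exact ⟨g * k, by simp [← hk, mul_assoc]⟩
  · intro a ha b hb hab
    rw [← Subgroup.orderOf_coe]
    exact hS.odd_of_not (orb_mem hS hE hx ha) (orb_mem hS hE hx hb)
      fun e => hab (Subtype.ext e.eq)
  · rintro a ⟨k, hk⟩ b ⟨l, hl⟩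
    refine ⟨l * k⁻¹, Subtype.ext ?_⟩
    simp [← hk, ← hl, mul_assoc]
  · refine top_le_iff.1
      ((Subgroup.closure_closure_coe_preimage (k := E ∪ {x})).ge.trans (Subgroup.closure_mono ?_))
    rintro ⟨e, heX⟩ (he | he)
    · exact Or.inl (hcls e he)
    · exact Or.inr (Subtype.ext he)

end Sub

/-- The standing situation for a class. -/
structure Std (D : Set G) : Prop where
  base : Base D
  gen : Subgroup.closure D = ⊤
  thick : Thick D
  conjg : ∀ a ∈ D, ∀ b ∈ D, Conjg D a b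
  core : Cfsg.pCore 2 G = ⊥

variable [Finite G] {D : Set G}

lemma cls_self {d : G} (hd : d ∈ D) : d ∈ cls D d := ⟨hd, Eqv.refl d⟩

lemma Std.eqv_of_sub (h : Std D) {a b : G} (ha : a ∈ D) (hb : b ∈ D)
    (hsub : ∀ c ∈ D, Commute c a → Commute c b) : Eqv D a b := by
  by_contra hne
  obtain ⟨c, hc, hca, hcb⟩ := h.base.exists_comm_not (h.conjg a ha b hb) hne
  exact hcb (hsub c hc hca)

lemma Std.eq_center (h : Std D) {d y g : G} (hd : d ∈ D) (hy : y ∈ D) (hdy : ¬ Commute d y)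
    (hgy : Commute g y) (hgd : ∀ c ∈ D, Commute c d → Commute g c) : g ∈ Subgroup.center G := by
  have h1 : Subgroup.closure D ≤ Subgroup.centralizer {g} := by
    refine (Root.gen h.base h.conjg h.thick hd hy hdy).trans ((Subgroup.closure_le _).2 ?_)
    rintro w (⟨hw, hwd⟩ | rfl)
    · exact Subgroup.mem_centralizer_singleton_iff.2 (hgd w hw hwd).eq.symm
    · exact Subgroup.mem_centralizer_singleton_iff.2 hgy.eq.symm
  exact Subgroup.mem_center_iff.2 fun a =>
    Subgroup.mem_centralizer_singleton_iff.1 (h1 (h.gen ▸ Subgroup.mem_top a))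

/-- A central involution is trivial. -/
lemma Std.central_eq_one (h : Std D) {z : G} (hz : z ∈ Subgroup.center G) (hz2 : z * z = 1) :
    z = 1 := by
  have : (Subgroup.zpowers z).Normal := ⟨fun n hn g => by
    have hnz : n ∈ Subgroup.center G := Subgroup.zpowers_le.2 hz hn
    rwa [Subgroup.mem_center_iff.1 hnz g, mul_inv_cancel_right]⟩
  have hp : IsPGroup 2 (Subgroup.zpowers z) := (isPGroup_pair hz2 hz2 (by rw [hz2, one_pow])).to_le
    (Subgroup.zpowers_le.2 (Subgroup.subset_closure (Or.inl rfl)))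
  have h1 := Cores.le_pCore hp (Subgroup.mem_zpowers z)
  rwa [h.core, Subgroup.mem_bot] at h1

lemma Std.gen_cls (h : Std D) {d x : G} (hd : d ∈ D) (hx : x ∈ D) (hdx : ¬ Commute d x) :
    Gen (orb (clX (cls D d) x) x) (⟨d, mem_clX_left (cls_self hd)⟩ : clX (cls D d) x)
        ⟨x, mem_clX_right⟩ ∧
      ∀ e (he : e ∈ cls D d), (⟨e, mem_clX_left he⟩ : clX (cls D d) x) ∈
        cls (orb (clX (cls D d) x) x) (⟨d, mem_clX_left (cls_self hd)⟩ : clX (cls D d) x) :=
  gen_sub h.base (fun _ hv => hv.1) (cls_self hd) hx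
    (fun e he v hv => he.2 v (orb_mem h.base (fun _ hv => hv.1) hx hv)) hdx

lemma Std.comm_clX (h : Std D) {d x c : G} (hd : d ∈ D) (hc : c ∈ D) (hcx : Commute c x)
    (hcd : Commute c d) {g : G} (hg : g ∈ clX (cls D d) x) : Commute c g := by
  have h1 : clX (cls D d) x ≤ Subgroup.centralizer {c} := (Subgroup.closure_le _).2 (by
    rintro w (hw | rfl)
    · exact Subgroup.mem_centralizer_singleton_iff.2 ((hw.2 c hc).1 hcd).eq.symm
    · exact Subgroup.mem_centralizer_singleton_iff.2 hcx.eq.symm)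
  exact (Subgroup.mem_centralizer_singleton_iff.1 (h1 hg)).symm

/-- Conjugates of `x` in `⟨cls d, x⟩` commuting with `d` are equivalent to `d`. -/
lemma Std.eqv_of_orb (h : Std D) {d x : G} (hd : d ∈ D) (hx : x ∈ D) (hdx : ¬ Commute d x)
    {a : clX (cls D d) x} (ha : a ∈ orb (clX (cls D d) x) x) (had : Commute (a : G) d) :
    (a : G) ∈ cls D d := by
  have haD := orb_mem h.base (fun _ hv => hv.1) hx ha
  exact ⟨haD, h.eqv_of_sub hd haD (absorb h.base hd hx haD (fun e => hdx e.symm) had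
    fun c hc hcx hcd => h.comm_clX hd hc hcx hcd a.2)⟩

/-- The members with the same commuting members form, with `1`, a group. -/
theorem Std.mul_mem_cls (h : Std D) {d u v : G} (hd : d ∈ D) (hu : u ∈ cls D d) (hv : v ∈ cls D d)
    (hne : u ≠ v) : u * v ∈ cls D d := by
  have hD := h.base
  have huv : Commute u v := (hv.2 u hu.1).1 ((hu.2 u hu.1).2 (Commute.refl u))
  set q := u * v with hq
  have hq2 : q * q = 1 := by
    rw [hq, huv.symm.mul_mul_mul_comm, hD.inv u hu.1, hD.inv v hv.1, one_mul]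
  by_cases hgood : ∃ y ∈ D, ¬ Commute d y ∧ ¬ Commute y (q * y * q)
  · obtain ⟨y, hy, hdy, hg⟩ := hgood
    obtain ⟨hG, hclsX⟩ := h.gen_cls hd hy hdy
    have hg' : ¬ Commute (⟨y, mem_clX_right⟩ : clX (cls D d) y)
        (⟨u, mem_clX_left hu⟩ * ⟨v, mem_clX_left hv⟩ * ⟨y, mem_clX_right⟩ *
          (⟨u, mem_clX_left hu⟩ * ⟨v, mem_clX_left hv⟩)) := fun e =>
      hg (congrArg Subtype.val e.eq)
    obtain ⟨f, hf, hfE, hfq, -, hyj, -⟩ := hG.exists_third hG.xmem (hclsX u hu) (hclsX v hv)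
      (fun e => hne (congrArg Subtype.val e)) hg'
    have hfd : Commute (f : G) d := congrArg Subtype.val (hfE _ (hclsX d (cls_self hd))).eq
    have hfc := h.eqv_of_orb hd hy hdy hf hfd
    have hj : (f : G) * q ∈ Subgroup.center G := by
      refine h.eq_center hd hy hdy (congrArg Subtype.val hyj.eq).symm fun c hc hcd => ?_
      exact Commute.mul_left ((hfc.2 c hc).1 hcd).symm
        (Commute.mul_left ((hu.2 c hc).1 hcd).symm ((hv.2 c hc).1 hcd).symm)
    have hfq' : Commute (f : G) q := congrArg Subtype.val hfq.eq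
    have h1 := h.central_eq_one hj (by
      rw [hfq'.symm.mul_mul_mul_comm, hD.inv _ hfc.1, hq2, one_mul])
    have e1 : q = (f : G) := by
      rw [eq_inv_of_mul_eq_one_right h1, hD.inv_self hfc.1]
    exact e1 ▸ hfc
  exfalso
  push Not at hgood
  have : Fact (Nat.Prime 2) := ⟨Nat.prime_two⟩
  have hzp : IsPGroup 2 (Subgroup.zpowers q) := (isPGroup_pair hq2 hq2 (by rw [hq2, one_pow])).to_le
    (Subgroup.zpowers_le.2 (Subgroup.subset_closure (Or.inl rfl)))
  suffices hall : ∀ σ : G, IsPGroup 2 (Subgroup.closure ({q, σ * q * σ⁻¹} : Set G)) by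
    obtain ⟨N, hN, hN2, hqN⟩ := Cfsg.Agent.Lib.Involutions.BaerSuzuki.baer_suzuki_elem hzp hall
    have h1 := Cores.le_pCore (hN := hN) hN2 hqN
    rw [h.core, Subgroup.mem_bot] at h1
    exact hne ((eq_inv_of_mul_eq_one_left h1).trans (hD.inv_self hv.1))
  intro σ
  have hσ : σ ∈ Subgroup.closure D := h.gen ▸ Subgroup.mem_top σ
  set u' := σ * u * σ⁻¹ with hu'
  set v' := σ * v * σ⁻¹ with hv'
  have e : σ * q * σ⁻¹ = u' * v' := OddTransp84.conj_mul σ u v
  have hu'D : u' ∈ D := hu' ▸ hD.conj_mem hσ hu.1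
  have hv'D : v' ∈ D := hv' ▸ hD.conj_mem hσ hv.1
  have huv' : Eqv D u v := hu.2.symm.trans hv.2
  by_cases huu : Commute u u'
  · refine isPGroup_pair hq2 (conj_sq hq2 σ) ?_
    rw [e]
    have h1 : Commute u v' := ((hD.eqv_conj hσ huv') u hu.1).1 huu
    have h2 : Commute v u' := ((huv' u' hu'D).1 huu.symm).symm
    have h3 : Commute v v' := ((hD.eqv_conj hσ huv') v hv.1).1 h2
    have hc : Commute q (u' * v') := (huu.mul_right h1).mul_left (h2.mul_right h3)
    have h4 : u' * v' * (u' * v') = 1 := by rw [← e]; exact conj_sq hq2 σ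
    rw [hc.mul_pow, show 4 = 2 * 2 by rfl, pow_mul, pow_mul, pow_two q, hq2, pow_two (u' * v'), h4,
      one_pow, one_mul]
  have hdu' : ¬ Commute d u' := fun hc => huu ((hu.2 u' hu'D).1 hc.symm).symm
  obtain ⟨hG, hclsX⟩ := h.gen_cls hd hu'D hdu'
  set X := clX (cls D d) u' with hX
  have hbad : Commute (⟨u', mem_clX_right⟩ : X)
      (⟨u, mem_clX_left hu⟩ * ⟨v, mem_clX_left hv⟩ * ⟨u', mem_clX_right⟩ *
        (⟨u, mem_clX_left hu⟩ * ⟨v, mem_clX_left hv⟩)) :=
    Subtype.ext (hgood u' hu'D hdu').eq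
  have hcore := hG.mem_core_of_bad (hclsX u hu) (hclsX v hv)
    (fun e' => hne (congrArg Subtype.val e')) hbad
  have hqX : q ∈ X := mul_mem (mem_clX_left hu) (mem_clX_left hv)
  obtain ⟨k, ⟨g, hg⟩, hk1, hk2, -⟩ := exists_swap (a := (⟨u, mem_clX_left hu⟩ : X))
    (b := ⟨u', mem_clX_right⟩) (Subtype.ext (hD.inv u hu.1)) (Subtype.ext (hD.inv u' hu'D))
    (by rw [← Subgroup.orderOf_coe]; exact hD.odd_of_not hu.1 hu'D huu)
  have hkD : (k : G) ∈ D := by
    rw [← hg]
    exact hD.conj_mem (h.gen ▸ Subgroup.mem_top _) hu.1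
  have hk2' : (k : G) * u' * (k : G) = u := congrArg Subtype.val hk2
  set v'' := (k : G) * v' * (k : G) with hv''
  have hv''cls : v'' ∈ cls D d := by
    refine ⟨hD.conj _ hkD _ hv'D, hu.2.trans ?_⟩
    have h1 := hD.eqv_conj (Subgroup.subset_closure hkD) (hD.eqv_conj hσ huv')
    rwa [← hu', ← hv', hD.inv_self hkD, hk2', ← hv''] at h1
  have hv'X : v' ∈ X := by
    rw [show v' = (k : G) * v'' * (k : G) by
      rw [hv'', mul_assoc (k : G) v' k, hD.self_cancel hkD, hD.cancel_self hkD]]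
    exact mul_mem (mul_mem k.2 (mem_clX_left hv''cls)) k.2
  have hq'X : σ * q * σ⁻¹ ∈ X := e ▸ mul_mem mem_clX_right hv'X
  have hz' : IsPGroup 2 (Subgroup.zpowers (⟨_, hq'X⟩ : X)) :=
    (isPGroup_pair (Subtype.ext (conj_sq hq2 σ)) (Subtype.ext (conj_sq hq2 σ))
      (by rw [show (⟨_, hq'X⟩ : X) * ⟨_, hq'X⟩ = 1 from Subtype.ext (conj_sq hq2 σ), one_pow])).to_le
    (Subgroup.zpowers_le.2 (Subgroup.subset_closure (Or.inl rfl)))
  refine ((((Cores.pCore_isPGroup (G := X) 2).to_sup_of_normal_left hz')).map X.subtype).to_le ?_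
  rw [Subgroup.closure_le]
  rintro w (rfl | rfl)
  · exact ⟨⟨q, hqX⟩, Subgroup.mem_sup_left hcore, rfl⟩
  · exact ⟨⟨_, hq'X⟩, Subgroup.mem_sup_right (Subgroup.mem_zpowers _), rfl⟩

/-- The configuration in `⟨cls d, x⟩`. -/
theorem Std.conf (h : Std D) {d x : G} (hd : d ∈ D) (hx : x ∈ D) (hdx : ¬ Commute d x) :
    ∃ hC : Core.Conf (orb (clX (cls D d) x) x), Subgroup.closure (orb (clX (cls D d) x) x) = ⊤ ∧
      ∃ P R : hC.Pt, P ≠ R ∧ Core.Conf.line P R = ⊤ ∧
        (∀ a : clX (cls D d) x, a ∈ P ↔ (a : G) = 1 ∨ (a : G) ∈ cls D d) ∧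
        (⟨x, mem_clX_right⟩ : clX (cls D d) x) ∈ R := by
  classical
  obtain ⟨hG, hclsX⟩ := h.gen_cls hd hx hdx
  set X := clX (cls D d) x with hX
  have hsub : ∀ a ∈ orb X x, (a : G) ∈ D := fun a ha => orb_mem h.base (fun _ hv => hv.1) hx ha
  have hE : ∀ a ∈ orb X x, Commute a (⟨d, mem_clX_left (cls_self hd)⟩ : X) → (a : G) ∈ cls D d :=
    fun a ha hc => h.eqv_of_orb hd hx hdx ha (congrArg Subtype.val hc.eq)
  have hcomm : ∀ a b : X, (a : G) ∈ cls D d → (b : G) ∈ cls D d → Commute a b := fun a b ha hb =>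
    Subtype.ext ((hb.2 _ ha.1).1 ((ha.2 _ ha.1).2 (Commute.refl _))).eq
  have tr : ∀ a ∈ orb X x, ∀ b ∈ orb X x, ∀ c ∈ orb X x,
      Commute a b → Commute b c → Commute a c := by
    intro a ha b hb c hc hab hbc
    obtain ⟨g, hg⟩ := hG.conjg b hb _ hG.dmem
    rw [← Commute.conj_iff g]
    exact hcomm _ _ (hE _ (hG.conj g a ha) (hg ▸ (Commute.conj_iff g).2 hab))
      (hE _ (hG.conj g c hc) (hg ▸ (Commute.conj_iff g).2 hbc.symm))
  have hmul : ∀ a ∈ orb X x, ∀ b ∈ orb X x, Commute a b → a ≠ b → a * b ∈ orb X x := by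
    intro a ha b hb hab hne
    obtain ⟨g, hg⟩ := hG.conjg a ha _ hG.dmem
    have h1 : ((g * b * g⁻¹ : X) : G) ∈ cls D d :=
      hE _ (hG.conj g b hb) (hg ▸ (Commute.conj_iff g).2 hab.symm)
    have hne' : d ≠ ((g * b * g⁻¹ : X) : G) := fun e => hne
      (mul_left_cancel (mul_right_cancel (hg.trans (Subtype.ext e))))
    have h2 := (hclsX _ (h.mul_mem_cls hd (cls_self hd) h1 hne')).1
    have h3 := hG.conj g⁻¹ _ h2
    convert h3 using 1
    rw [show (⟨d * ((g * b * g⁻¹ : X) : G), _⟩ : X) = g * a * g⁻¹ * (g * b * g⁻¹) from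
      Subtype.ext (by rw [hg]; rfl)]
    group
  obtain ⟨y₀, hy₀, hy₀ne, -, -, he₀⟩ := h.base.exists_partner hd
  have hy₀cls : y₀ ∈ cls D d := ⟨hy₀, he₀⟩
  have hC : Core.Conf (orb X x) := ⟨hG.sq, hG.ne, hG.conj, tr, hmul, hG.pair, fun a ha => by
    obtain ⟨g, hg⟩ := hG.conjg _ hG.dmem a ha
    refine ⟨g * ⟨y₀, mem_clX_left hy₀cls⟩ * g⁻¹, hG.conj g _ (hclsX _ hy₀cls).1,
      fun e => hy₀ne (congrArg Subtype.val (mul_left_cancel (mul_right_cancel (e.trans hg.symm)))),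
      hg ▸ (Commute.conj_iff g).2 (hcomm _ _ hy₀cls (cls_self hd))⟩⟩
  have hP : ∀ a : X, a ∈ hC.pt hG.dmem ↔ (a : G) = 1 ∨ (a : G) ∈ cls D d := by
    intro a
    constructor
    · intro ha
      by_cases h1 : a = 1
      · exact Or.inl (congrArg Subtype.val h1)
      · exact Or.inr (hE a (Core.Conf.mem_D ha h1)
          (Core.Conf.commute_mem ha (Core.Conf.mem_pt hG.dmem)))
    · rintro (e | e)
      · rw [show a = 1 from Subtype.ext e]
        exact Core.Conf.one_mem_pt _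
      · exact (Core.Conf.mem_iff_commute (Core.Conf.mem_pt hG.dmem) (hC.ne _ hG.dmem)
          (hclsX _ e).1).2 (hcomm a _ e (cls_self hd))
  refine ⟨hC, ?_, hC.pt hG.dmem, hC.pt hG.xmem, fun e => ?_, top_le_iff.1 ?_, hP,
    Core.Conf.mem_pt hG.xmem⟩
  · rw [eq_top_iff, ← hG.gen, Subgroup.closure_le]
    rintro a (ha | ha)
    · exact Subgroup.subset_closure ha.1
    · exact Subgroup.subset_closure (Set.mem_singleton_iff.1 ha ▸ hG.xmem)
  · exact hG.nc (Core.Conf.commute_mem (Core.Conf.mem_pt hG.dmem) (e ▸ Core.Conf.mem_pt hG.xmem))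
  · rw [← hG.gen, Subgroup.closure_le]
    rintro a (ha | ha)
    · refine Core.Conf.left_le_line ((Core.Conf.mem_iff_commute (Core.Conf.mem_pt hG.dmem)
        (hC.ne _ hG.dmem) ha.1).2 ?_)
      exact ((ha.2 a ha.1).2 (Commute.refl a))
    · rw [Set.mem_singleton_iff.1 ha]
      exact Core.Conf.right_le_line (Core.Conf.mem_pt hG.xmem)

end Cfsg.Agent.Lib.OddTransp84.Root
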