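import Cfsg.Agent.Lib.OddTransp84.Root.Central

/-!
There are no Suzuki data on a thin line.
-/

set_option autoImplicit false

namespace Cfsg.Agent.Lib.OddTransp84.Root

open Cfsg.Agent.Lib.OddTransp84 Cfsg.Agent.Lib.OddTransp84.Reduction
open Cfsg.Agent.Lib.OddTransp84.Core Cfsg.Agent.Lib

universe u

variable {G : Type u} [Group G] [Finite G]

/-- A 2-group acting on an elementary abelian 2-group fixes an element outside an invariant proper
subgroup, modulo that subgroup. -/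
lemma exists_fixed_mod {T W C : Subgroup G} (hT : IsPGroup 2 T) (hW : IsPGroup 2 W) (hCW : C ≤ W)
    (hcomm : ∀ u ∈ W, ∀ v ∈ W, Commute u v) (hTW : ∀ g ∈ T, ∀ u ∈ W, g * u * g⁻¹ ∈ W)
    (hTC : ∀ g ∈ T, ∀ u ∈ C, g * u * g⁻¹ ∈ C) (hne : ∃ u ∈ W, u ∉ C) :
    ∃ u ∈ W, u ∉ C ∧ ∀ g ∈ T, g * u * g⁻¹ * u⁻¹ ∈ C := by
  classical
  have : Fact (Nat.Prime 2) := ⟨Nat.prime_two⟩
  set N := Subgroup.normalizer (C : Set G) with hN
  have hTN : T ≤ N := fun g hg => Subgroup.mem_normalizer_fintype (hTC g hg)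
  have hWN : W ≤ N := fun w hw => Subgroup.mem_normalizer_fintype fun u hu => by
    rwa [(hcomm w hw u (hCW hu)).eq, mul_inv_cancel_right]
  set π := QuotientGroup.mk' (C.subgroupOf N) with hπ
  set W' := (W.subgroupOf N).map π with hW'
  set T' := (T.subgroupOf N).map π with hT'
  have hW'2 : IsPGroup 2 W' := (hW.of_equiv (Subgroup.subgroupOfEquivOfLe hWN).symm).map π
  have hT'2 : IsPGroup 2 T' := (hT.of_equiv (Subgroup.subgroupOfEquivOfLe hTN).symm).map π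
  have hker : ∀ w : N, π w = 1 ↔ (w : G) ∈ C := fun w =>
    (QuotientGroup.eq_one_iff w).trans Subgroup.mem_subgroupOf
  obtain ⟨u₀, hu₀, hu₀C⟩ := hne
  obtain ⟨n, hn⟩ := IsPGroup.iff_card.1 hW'2
  have hodd : Odd ({y | y ∈ W' ∧ y ≠ 1} : Set _).ncard := by
    rw [show ({y | y ∈ W' ∧ y ≠ 1} : Set _) = (W' : Set _) \ {1} from rfl,
      Set.ncard_sdiff_singleton_of_mem (one_mem W'), ← Nat.card_coe_set_eq]
    rw [show Nat.card ↥(W' : Set (↥N ⧸ C.subgroupOf N)) = 2 ^ n from hn]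
    rcases Nat.eq_zero_or_pos n with rfl | hn0
    · exfalso
      rw [pow_zero] at hn
      have h1 : π ⟨u₀, hWN hu₀⟩ ∈ W' := Subgroup.mem_map_of_mem π hu₀
      rw [Subgroup.card_eq_one.1 hn, Subgroup.mem_bot, hker] at h1
      exact hu₀C h1
    · exact Nat.Even.sub_odd Nat.one_le_two_pow (Nat.even_pow.2 ⟨even_two, hn0.ne'⟩) odd_one
  obtain ⟨y, ⟨⟨w, hw, rfl⟩, hw1⟩, hfix⟩ := Conf.exists_commute_fixed hT'2 hodd (by
    rintro _ ⟨g, hg, rfl⟩ _ ⟨⟨w, hw, rfl⟩, hw1⟩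
    refine ⟨⟨g * w * g⁻¹, hTW g hg w hw, by rw [map_mul, map_mul, map_inv]⟩, fun e => hw1 ?_⟩
    simpa using e)
  refine ⟨w, hw, fun hwC => hw1 ((hker w).2 hwC), fun g hg => ?_⟩
  have h1 : π (⟨g, hTN hg⟩ * w * ⟨g, hTN hg⟩⁻¹ * w⁻¹) = 1 := by
    rw [map_mul, map_mul, map_mul, map_inv, map_inv,
      (hfix _ (Subgroup.mem_map_of_mem π (show (⟨g, hTN hg⟩ : N) ∈ T.subgroupOf N from hg))).eq,
      mul_inv_cancel_right, mul_inv_cancel]
  exact (hker _).1 h1

variable {D : Set G}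

namespace TH

variable {d x r : G} (hT : TH D d x) (h : Std D) (hr : r ∈ D) (hrd : Commute r d) (hrx : Commute r x)
include hT h hr hrd hrx

omit hr hrd hrx in
lemma lnV_two : IsPGroup 2 (lnV D d x r) := (Cores.pCore_isPGroup 2).map _

/-- No Suzuki data. -/
theorem no_data (hI : BenderOne.PropSplit.{u}) {T : Subgroup G} {t : G} (hS : SzData D d x T t) :
    False := by
  classical
  have hD := h.base
  have hd := hT.dmem
  have hth := hT.nb_thin h hr hrd hrx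
  have hNB := hT.nb_base h hr hrd hrx
  have hd1 := hT.self_mem h.base hrd hrx
  have hx1 := hT.x_mem h.base hrd hrx
  set X := clX (cls D d) x with hX
  set F := Subgroup.centralizer (X : Set G) with hF
  have hcF : ∀ {z : G}, Cent X z ↔ z ∈ F := fun {z} => cent_iff
  have hFconj : ∀ σ ∈ X, ∀ f ∈ F, σ * f * σ⁻¹ = f := fun σ hσ f hf => by
    rw [← (hcF.2 hf σ hσ).eq, mul_inv_cancel_right]
  obtain ⟨T0, hK, h2⟩ := hT.residue h hI hS hr hrd hrx
  set W := lnV D d x r ⊓ ab (nb D r d) d with hW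
  have hWcomm : ∀ u ∈ W, ∀ v ∈ W, Commute u v := fun u hu v hv =>
    ab_comm hth hd1 (Subgroup.mem_inf.1 hu).2 (Subgroup.mem_inf.1 hv).2
  have hTW : ∀ g ∈ T, ∀ u ∈ W, g * u * g⁻¹ ∈ W := fun g hg u hu => Subgroup.mem_inf.2
    ⟨hT.lnV_conj h (hT.T_le_ln h hr hrd hrx hS hg) (Subgroup.mem_inf.1 hu).1,
      hT.ab_T h hr hrd hrx hS hg (Subgroup.mem_inf.1 hu).2⟩
  obtain ⟨u₀, hu₀V, hu₀d, hu₀c⟩ := hT.not_central h hr hrd hrx hI hS
  obtain ⟨u, huW, huC, hufix⟩ := exists_fixed_mod (C := W ⊓ F) hS.two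
    ((hT.lnV_two h).to_le inf_le_left) inf_le_left hWcomm hTW
    (fun g hg v hv => ⟨hTW g hg v hv.1, (hFconj g (hS.le hg) v hv.2).symm ▸ hv.2⟩)
    ⟨u₀, ⟨hu₀V, hu₀d⟩, fun e => hu₀c (hcF.2 e.2)⟩
  have huF : u ∉ F := fun e => huC ⟨huW, e⟩
  have htl := hT.t_mem_ln h hr hrd hrx hS
  have htX := hS.tmem
  have htt : ∀ w : G, t * (t * w) = w := fun w => by rw [← mul_assoc, hS.tsq, one_mul]
  have htF : ∀ f ∈ F, t * f * t = f := fun f hf => by rw [← hS.tconj]; exact hFconj t htX f hf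
  have hW2 : ∀ w ∈ W, w * w = 1 := fun w hw => ab_sq hNB hth hd1 (Subgroup.mem_inf.1 hw).2
  have hWi : ∀ w ∈ W, w⁻¹ = w := fun w hw => inv_eq_of_mul_eq_one_right (hW2 w hw)
  -- the part of `x`
  have hyof : ∀ w ∈ W, (∀ g ∈ T, g * w * g⁻¹ * w⁻¹ ∈ W ⊓ F) →
      t * w * t ∈ lnV D d x r ∧ t * w * t ∈ ab (nb D r d) x ∧
        ∀ z ∈ T, Cent X z → Cent X (z * (t * w * t) * z⁻¹ * (t * w * t)) := by
    intro w hw hfix
    refine ⟨?_, ?_, fun z hz hzc => ?_⟩
    · rw [← hS.tconj]; exact hT.lnV_conj h htl (Subgroup.mem_inf.1 hw).1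
    · have h1 := hT.ab_ln h hr hrd hrx htl (Subgroup.mem_inf.1 hw).2
      rwa [hS.tconj, hS.tconj, hS.tswap] at h1
    have hzt : z * t = t * z := (hzc t htX).eq
    have hzt' : t * z⁻¹ = z⁻¹ * t := ((hzc t htX).symm.inv_right).eq
    refine hcF.2 ?_
    rw [show z * (t * w * t) * z⁻¹ * (t * w * t) = (z * t) * w * (t * z⁻¹) * (t * w * t) by group,
      hzt, hzt', show t * z * w * (z⁻¹ * t) * (t * w * t) = t * (z * w * z⁻¹ * (t * (t * w))) * t by
        group, htt]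
    nth_rw 2 [← hWi w hw]
    rw [htF _ (Subgroup.mem_inf.1 (hfix z hz)).2]
    exact (Subgroup.mem_inf.1 (hfix z hz)).2
  set y := t * u * t with hy
  obtain ⟨hyV, hyx, hyz⟩ := hyof u huW hufix
  rw [← hy] at hyV hyx hyz
  -- the element squaring onto the class
  obtain ⟨g₀, hg₀, a, ha, z₀, hz₀, hgg₀⟩ := hS.four
  obtain ⟨g, hg, z₁, hz₁, hge, hgK⟩ := hK g₀ hg₀
  have hgX := hS.le hg
  obtain ⟨z, hzc, hgg⟩ : ∃ z, Cent X z ∧ g * g = a * z := by
    refine ⟨z₀ * (z₁ * z₁)⁻¹, hcF.2 (mul_mem (hcF.1 hz₀)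
      (inv_mem (mul_mem (hcF.1 hz₁) (hcF.1 hz₁)))), ?_⟩
    rw [← mul_assoc, ← hgg₀, hge, show g * z₁ * (g * z₁) = g * (z₁ * g) * z₁ by group,
      (hz₁ g hgX).eq]
    group
  have hai : a⁻¹ = a := hD.inv_self ha.1
  have hzT : z ∈ T := by
    rw [show z = a⁻¹ * (g * g) by rw [hgg, inv_mul_cancel_left]]
    exact mul_mem (inv_mem (hS.cls_le a ha)) (mul_mem hg hg)
  have hnax : ¬ Commute x a := fun e => hT.nc ((ha.2 x hT.xmem).2 e).symm
  -- the point to which `t g` moves `x` differs from that of `d`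
  have hσX : t * g ∈ X := mul_mem htX hgX
  obtain ⟨g₁', hg₁', hg₁e'⟩ := hS.trans _ hσX fun e => by
    have h1 := (commute_conj_iff t).2 e
    rw [hS.tinv, hS.tswap, show t * (t * g * x * (t * g)⁻¹) * t = g * x * g⁻¹ * (t⁻¹ * t) by
      rw [mul_assoc t g x, mul_assoc t (g * x), htt, mul_inv_rev]; group,
      inv_mul_cancel, mul_one] at h1
    -- then `g` would fix the point of `x`
    have hgx : Eqv D x (g * x * g⁻¹) := by
      obtain ⟨hG, hclsX⟩ := h.gen_cls hd hT.xmem hT.nc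
      have hmem : (⟨t * (g * x * g⁻¹) * t, mul_mem (mul_mem htX (mul_mem (mul_mem hgX mem_clX_right)
          (inv_mem hgX))) htX⟩ : X) ∈ orb X x := by
        refine ⟨⟨t * g, hσX⟩, ?_⟩
        show t * g * x * (t * g)⁻¹ = t * (g * x * g⁻¹) * t
        rw [mul_inv_rev, hS.tinv]; group
      have hc : Commute (t * (g * x * g⁻¹) * t) d := by
        have := (commute_conj_iff t).2 h1
        rwa [hS.tinv, hS.tx] at this
      have h3 := h.eqvc t (h.eqv_of_orb hd hT.xmem hT.nc hmem hc).2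
      rw [hS.tconj, hS.tconj, hS.tswap] at h3
      rwa [show t * (t * (g * x * g⁻¹) * t) * t = g * x * g⁻¹ * (t⁻¹ * t) by
        rw [mul_assoc t (g * x * g⁻¹) t, htt]; rw [hS.tinv]; group, inv_mul_cancel, mul_one] at h3
    have hgg' : Eqv D x (g * g * x * (g * g)⁻¹) := by
      refine hgx.trans ?_
      have := h.eqvc g hgx
      rwa [show g * (g * x * g⁻¹) * g⁻¹ = g * g * x * (g * g)⁻¹ by group] at this
    rw [hgg, show a * z * x * (a * z)⁻¹ = a * (z * x * z⁻¹) * a⁻¹ by group,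
      (hzc x mem_clX_right).eq, mul_inv_cancel_right, hai] at hgg'
    refine hD.not_commute_conj hT.xmem ha.1 hnax ?_
    have hm : a * x * a ∈ D := hD.conj a ha.1 x hT.xmem
    exact (hgg' x hT.xmem).1 (Commute.refl x)
  obtain ⟨g₁, hg₁, z₂, hz₂, hge₁, hg₁K⟩ := hK g₁' hg₁'
  have hg₁X := hS.le hg₁
  have hg₁e : Eqv D (g₁ * x * g₁⁻¹) (t * g * x * (t * g)⁻¹) := by
    rwa [hge₁, show g₁ * z₂ * x * (g₁ * z₂)⁻¹ = g₁ * (z₂ * x * z₂⁻¹) * g₁⁻¹ by group,
      (hz₂ x mem_clX_right).eq, mul_inv_cancel_right] at hg₁e'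
  set s := t * g₁⁻¹ * t * g * t with hs
  have hsX : s ∈ X := mul_mem (mul_mem (mul_mem (mul_mem htX (inv_mem hg₁X)) htX) hgX) htX
  have hsl := hT.clX_le_ln h hr hrd hrx hsX
  have hsd : Eqv D (s * d * s⁻¹) d := by
    have h1 := h.eqvc (t * g₁⁻¹) hg₁e.symm
    rw [show t * g₁⁻¹ * (g₁ * x * g₁⁻¹) * (t * g₁⁻¹)⁻¹ = t * x * t⁻¹ by group, hS.tconj, hS.tx,
      show t * g₁⁻¹ * (t * g * x * (t * g)⁻¹) * (t * g₁⁻¹)⁻¹ = t * g₁⁻¹ * t * g * (t * d * t) *
        (t * g₁⁻¹ * t * g)⁻¹ by rw [hS.tswap]; group] at h1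
    rwa [hs, show t * g₁⁻¹ * t * g * t * d * (t * g₁⁻¹ * t * g * t)⁻¹ = t * g₁⁻¹ * t * g *
      (t * d * t⁻¹) * (t * g₁⁻¹ * t * g)⁻¹ by group, hS.tconj]
  set u' := s * u * s⁻¹ with hu'
  have hu'W : u' ∈ W := by
    refine Subgroup.mem_inf.2 ⟨hT.lnV_conj h hsl (Subgroup.mem_inf.1 huW).1, ?_⟩
    have h1 := hT.ab_ln h hr hrd hrx hsl (Subgroup.mem_inf.1 huW).2
    rwa [ab_eq hth (hT.ln_conj h hr hrd hrx hsl hd1) hd1
      (((hsd _ (h.conjD s hd)).1 (Commute.refl _)))] at h1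
  have hu'fix : ∀ g' ∈ T, g' * u' * g'⁻¹ * u'⁻¹ ∈ W ⊓ F := by
    intro g' hg'
    refine Subgroup.mem_inf.2 ⟨mul_mem (hTW g' hg' u' hu'W) (inv_mem hu'W), ?_⟩
    have hg'' : s⁻¹ * g' * s⁻¹⁻¹ ∈ T := by
      refine hS.norm s⁻¹ (inv_mem hsX) ?_ g' hg'
      have := h.eqvc s⁻¹ hsd
      rw [show s⁻¹ * (s * d * s⁻¹) * s⁻¹⁻¹ = d by group] at this
      exact this.symm
    rw [show g' * u' * g'⁻¹ * u'⁻¹ = s * ((s⁻¹ * g' * s⁻¹⁻¹) * u * (s⁻¹ * g' * s⁻¹⁻¹)⁻¹ * u⁻¹) * s⁻¹ by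
      rw [hu']; group, hFconj s hsX _ (Subgroup.mem_inf.1 (hufix _ hg'')).2]
    exact (Subgroup.mem_inf.1 (hufix _ hg'')).2
  set y' := t * u' * t with hy'
  obtain ⟨hy'V, hy'x, hy'z⟩ := hyof u' hu'W hu'fix
  rw [← hy'] at hy'V hy'x hy'z
  -- the two products centralise the class
  have hv := hT.key h hr hrd hrx hS h2 hg hgK hyV hyx hyz
  have hv' := hT.key h hr hrd hrx hS h2 hg₁ hg₁K hy'V hy'x hy'z
  set v := y * (g * y * g⁻¹) with hvdef
  set v' := y' * (g₁ * y' * g₁⁻¹) with hv'def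
  set y₁ := g * y * g⁻¹ with hy₁
  have hy2 : y * y = 1 := ab_sq hNB hth hx1 hyx
  have hyi : y⁻¹ = y := inv_eq_of_mul_eq_one_right hy2
  have hy'2 : y' * y' = 1 := ab_sq hNB hth hx1 hy'x
  have hy₁2 : y₁ * y₁ = 1 := by rw [hy₁]; exact conj_sq hy2 g
  have e1 : t * y₁ * t = y' * v' := by
    rw [hv'def, ← mul_assoc y' y', hy'2, one_mul, hy', hu', hy₁, hy, hs]
    simp [mul_assoc, mul_inv_rev, hS.tinv, htt]
  have e2 : t * y₁ * t = u * (t * v * t) := by
    rw [hvdef, show t * (y * y₁) * t = t * y * y₁ * t by group, show t * y = u * t by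
      rw [hy, mul_assoc t u t, htt]]
    simp [mul_assoc, ← mul_assoc u u, hW2 u huW]
  have e3 : v' * u = y' * (t * v * t)⁻¹ := by
    have hq : (y' * v') * (y' * v') = 1 := by
      rw [← e1]; simp only [mul_assoc, htt]
      rw [← mul_assoc y₁ y₁, hy₁2, one_mul, hS.tsq]
    have hq' : y' * v' = v'⁻¹ * y' := by
      rw [eq_inv_mul_iff_mul_eq]
      calc v' * (y' * v') = y' * y' * (v' * (y' * v')) := by rw [hy'2, one_mul]
        _ = y' * (y' * v' * (y' * v')) := by group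
        _ = y' := by rw [hq, mul_one]
    calc v' * u = v' * (u * (t * v * t)) * (t * v * t)⁻¹ := by group
      _ = v' * (y' * v') * (t * v * t)⁻¹ := by rw [← e2, e1]
      _ = y' * (t * v * t)⁻¹ := by rw [hq', mul_inv_cancel_left]
  set f := v' * u with hf
  have hclscomm : ∀ w ∈ W, ∀ b ∈ cls D d, Commute w b := fun w hw b hb =>
    ab_comm hth hd1 (Subgroup.mem_inf.1 hw).2
      (mem_ab (hT.cls_sub_cq h hr hrd hrx hb).1 (hT.cls_sub_cq h hr hrd hrx hb).2)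
  have hfF : f ∈ F := by
    refine hcF.1 fun e he => ?_
    have h1 : X ≤ Subgroup.centralizer {f} := (Subgroup.closure_le _).2 (by
      rintro b (hb | hb)
      · exact Subgroup.mem_centralizer_singleton_iff.2
          ((hv' b hb).mul_left (hclscomm u huW b hb)).eq.symm
      · rw [Set.mem_singleton_iff.1 hb]
        refine Subgroup.mem_centralizer_singleton_iff.2 (Commute.eq (Commute.symm ?_))
        have h3 : Commute (u' * v⁻¹) d :=
          (hclscomm u' hu'W d (cls_self hd)).mul_left (hv d (cls_self hd)).inv_left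
        have h4 := (commute_conj_iff t).2 h3
        rw [hS.tinv, hS.tswap] at h4
        rwa [e3, show y' * (t * v * t)⁻¹ = t * (u' * v⁻¹) * t by
          rw [hy', mul_inv_rev, mul_inv_rev, hS.tinv]; simp [mul_assoc, htt]])
    exact (Subgroup.mem_centralizer_singleton_iff.1 (h1 he)).symm
  have e4 : y₁ = u' * f * y := by
    have e5 : v' = f * u := by rw [hf, mul_assoc, hW2 u huW, mul_one]
    calc y₁ = t * (t * y₁ * t) * t := by simp [mul_assoc, htt, hS.tsq]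
      _ = t * (t * u' * t * (f * u)) * t := by rw [e1, e5, hy']
      _ = u' * (t * f * t) * (t * u * t) := by simp [mul_assoc, htt]
      _ = u' * f * y := by rw [htF f hfF, ← hy]
  set p := u' * f with hp
  have hc1 : p * p ∈ F := by
    have h1 : y * p * y = p⁻¹ := by
      refine eq_inv_of_mul_eq_one_right ?_
      rw [← hy₁2, e4]; group
    have hc := hT.W_comm_conj h hr hrd hrx hS hg hyV hyx hyV hyx
    rw [← hy₁] at hc
    have h3 : y * y₁ * y⁻¹ * y₁⁻¹ = (p * p)⁻¹ := by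
      rw [e4, hyi, mul_inv_rev p y, hyi, show y * (p * y) * y * (y * p⁻¹) = y * p * (y * y) * y * p⁻¹ by
        group, hy2, mul_one, h1, hp]
      group
    rw [h3] at hc
    have := (hcF (z := (p * p)⁻¹)).1 fun e he => hc e (hT.clX_le_ln h hr hrd hrx he)
    rwa [inv_mem_iff] at this
  -- hence `a` commutes with `y`
  set w := a * y * a * y with hw
  have hwd : w ∈ ab (nb D r d) d := by
    obtain ⟨⟨h1, h1'⟩, -⟩ := hT.cq_conjV h hr hrd hrx (hT.cls_sub_cq h hr hrd hrx ha) hyV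
    rw [hyi] at h1 h1'
    rw [hw, show a * y * a * y = a * (y * a * y) by group]
    exact mul_mem (mem_ab (hT.cls_sub_cq h hr hrd hrx ha).1 (hT.cls_sub_cq h hr hrd hrx ha).2)
      (mem_ab h1 h1')
  have hwF : w ∈ F := by
    have hE : g * u' * g⁻¹ * u'⁻¹ ∈ F := (Subgroup.mem_inf.1 (hu'fix g hg)).2
    set E := g * u' * g⁻¹ * u'⁻¹ with hEdef
    have e6 : g * g * y * (g * g)⁻¹ = E * (p * p) * y := by
      calc g * g * y * (g * g)⁻¹ = g * (g * y * g⁻¹) * g⁻¹ := by group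
        _ = g * (u' * f * y) * g⁻¹ := by rw [← hy₁, e4]
        _ = g * u' * g⁻¹ * (g * f * g⁻¹) * (g * y * g⁻¹) := by group
        _ = g * u' * g⁻¹ * f * (u' * f * y) := by rw [hFconj g hgX f hfF, ← hy₁, e4]
        _ = E * (p * p) * y := by rw [hEdef, hp]; group
    have he : z * y * z⁻¹ * y ∈ F := hcF.1 (hyz z hzT hzc)
    set ε := z * y * z⁻¹ * y with hεdef
    have e7 : g * g * y * (g * g)⁻¹ = ε * (a * y * a) := by
      calc g * g * y * (g * g)⁻¹ = a * (z * y * z⁻¹) * a⁻¹ := by rw [hgg]; group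
        _ = (a * ε * a⁻¹) * (a * y * a⁻¹) := by
          rw [hεdef]
          rw [show a * (z * y * z⁻¹ * y) * a⁻¹ * (a * y * a⁻¹) = a * (z * y * z⁻¹) * (y * y) * a⁻¹ by
            group, hy2, mul_one]
        _ = ε * (a * y * a) := by rw [hFconj a (mem_clX_left ha) ε he, hai]
    have e8 : w = ε⁻¹ * (E * (p * p)) := by
      rw [hw, eq_inv_mul_iff_mul_eq, show ε * (a * y * a * y) = ε * (a * y * a) * y by group, ← e7,
        e6, mul_assoc, hy2, mul_one]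
    rw [e8]
    exact mul_mem (inv_mem he) (mul_mem hE hc1)
  have hw1 : w = 1 := by
    have hwL := hT.cent_of_comm h hr hrd hrx hwd (hcF.2 hwF x mem_clX_right)
    have hnyay : ¬ Commute (y * a * y) x := by
      intro e
      obtain ⟨⟨h1, h1'⟩, -⟩ := hT.cq_conjV h hr hrd hrx (hT.cls_sub_cq h hr hrd hrx ha) hyV
      rw [hyi] at h1 h1'
      exact hT.nc (trans_of_thin hth hd1 h1 hx1 h1'.symm e)
    refine eq_one_of_mul hD ha.1 (c' := y * a * y) ?_ hT.xmem (fun e => hnax e.symm) hnyay ?_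
      (ab_sq hNB hth hd1 hwd) (hwL a (hT.clX_le_ln h hr hrd hrx (mem_clX_left ha)))
      (hcF.2 hwF x mem_clX_right)
    · have := h.conjD y ha.1
      rwa [hyi] at this
    · rw [(hwL a (hT.clX_le_ln h hr hrd hrx (mem_clX_left ha))).eq, hw, ← mul_assoc a (a * y * a),
        ← mul_assoc a (a * y) a, ← mul_assoc a a y, hD.inv a ha.1, one_mul]
  have hya : Commute y a := by
    have h1 : a * y * a * y = 1 := hw ▸ hw1
    have h3 : (a * y) * (a * y) = 1 := by rw [← mul_assoc]; exact h1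
    have h4 := inv_eq_of_mul_eq_one_right h3
    rw [mul_inv_rev, hyi, hai] at h4
    exact h4
  refine huF (hcF.1 fun e he => ?_)
  have h1 : X ≤ Subgroup.centralizer {u} := (Subgroup.closure_le _).2 (by
    rintro b (hb | hb)
    · exact Subgroup.mem_centralizer_singleton_iff.2 (hclscomm u huW b hb).eq.symm
    · rw [Set.mem_singleton_iff.1 hb]
      refine Subgroup.mem_centralizer_singleton_iff.2 (Commute.eq (Commute.symm ?_))
      have h4 := (commute_conj_iff t).2 (hT.comm_cls_all h hr hrd hrx ha hyV hya d (cls_self hd))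
      rw [hS.tinv, hS.tswap] at h4
      rwa [show t * y * t = u by rw [hy]; simp [mul_assoc, htt, hS.tsq]] at h4)
  exact (Subgroup.mem_centralizer_singleton_iff.1 (h1 he)).symm

end TH

end Cfsg.Agent.Lib.OddTransp84.Root
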