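import Cfsg.Agent.Lib.OddTransp84.Root.Main
import Cfsg.Agent.Lib.OddTransp84.Core.Structure

/-!
`⟨cls d, x⟩` is `PSL₂(q)` for `q` one more than the size of the class.
-/

set_option autoImplicit false

namespace Cfsg.Agent.Lib.OddTransp84.Root

open Cfsg.Agent.Lib.OddTransp84 Cfsg.Agent.Lib.OddTransp84.Reduction
open Cfsg.Agent.Lib.OddTransp84.Core Cfsg.Agent.Lib

universe u

variable {G : Type u} [Group G] [Finite G] {D : Set G}

/-- The class with `1` is a group. -/
theorem Std.closure_cls (h : Std D) {d : G} (hd : d ∈ D) :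
    (Subgroup.closure (cls D d) : Set G) = cls D d ∪ {1} := by
  refine Set.Subset.antisymm (fun w hw => ?_) ?_
  · induction hw using Subgroup.closure_induction with
    | mem a ha => exact Or.inl ha
    | one => exact Or.inr rfl
    | inv p _ ih =>
      rcases ih with ih | ih
      · rw [h.base.inv_self ih.1]; exact Or.inl ih
      · rw [Set.mem_singleton_iff.1 ih, inv_one]; exact Or.inr rfl
    | mul p q _ _ ihp ihq =>
      rcases ihp with ihp | ihp
      · rcases ihq with ihq | ihq
        · by_cases e : p = q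
          · exact Or.inr (by rw [e]; exact h.base.inv q ihq.1)
          · exact Or.inl (h.mul_mem_cls hd ihp ihq e)
        · rw [Set.mem_singleton_iff.1 ihq, mul_one]; exact Or.inl ihp
      · rw [Set.mem_singleton_iff.1 ihp, one_mul]; exact ihq
  · rintro w (hw | hw)
    · exact Subgroup.subset_closure hw
    · rw [Set.mem_singleton_iff.1 hw]; exact one_mem _

/-- `⟨cls d, x⟩` is linear. -/
theorem Std.iso (h : Std D) (hI : BenderOne.PropSplit.{u}) {d x : G} (hd : d ∈ D) (hx : x ∈ D)
    (hdx : ¬ Commute d x) :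
    ∃ (F : Type) (_ : Field F) (_ : Fintype F),
      Fintype.card F = (cls D d).ncard + 1 ∧
      Nonempty (↥(clX (cls D d) x) ≃* Matrix.ProjectiveSpecialLinearGroup (Fin 2) F) := by
  classical
  obtain ⟨F, iF, iT, hch, hq4, hF, ⟨e⟩⟩ := h.linear hI hd hx hdx
  obtain ⟨hC, hgen, P, R, hne, hline, hP, -⟩ := h.conf hd hx hdx
  set X := clX (cls D d) x with hX
  have htwo : ∀ Y : hC.Pt, ∃ Z : hC.Pt, Y ≠ Z := fun Y => by
    by_cases e' : Y = P
    · exact ⟨R, e' ▸ hne⟩
    · exact ⟨P, e'⟩
  have hperf : commutator X = ⊤ := by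
    rw [← Abelianization.ker_of, eq_top_iff]
    exact fun g _ => Conf.hom_eq_one (h := hC) hgen htwo Abelianization.of g
  obtain ⟨hDZ, -⟩ := Conf.exists_quotCenter hgen hne hline
  set π := QuotientGroup.mk' (Subgroup.center X) with hπ
  set σ := e.toMonoidHom.comp π with hσdef
  have hσker : σ.ker = Subgroup.center X := by
    rw [← QuotientGroup.ker_mk' (Subgroup.center X)]; ext w; simp [hσdef, hπ, MonoidHom.mem_ker]
  have hσ : Cfsg.IsStemExtension σ := by
    refine ⟨e.surjective.comp (QuotientGroup.mk'_surjective _), ?_, ?_⟩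
    · rw [hσker]
    · rw [hperf]; exact le_top
  have : Fact (Nat.Prime 2) := ⟨Nat.prime_two⟩
  obtain ⟨n, hn⟩ : ∃ n : ℕ, Fintype.card F = 2 ^ n := by
    obtain ⟨n, -, e'⟩ := FiniteField.card F 2
    exact ⟨n, e'⟩
  have hn2 : 2 ≤ n := by
    by_contra hn2
    have := Nat.pow_le_pow_right (show 1 ≤ 2 by norm_num) (show n ≤ 1 by omega)
    omega
  have hev : Even (Fintype.card F) := hn ▸ Nat.even_pow.2 ⟨even_two, by omega⟩
  -- the Sylow 2-subgroup is abelian
  have hP2 : IsPGroup 2 P.1 := fun w => ⟨1, Subtype.ext (by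
    rw [pow_one, pow_two]
    exact Conf.sq_mem w.2)⟩
  obtain ⟨S, hS⟩ := hP2.exists_le_sylow
  have hinj : ∀ a ∈ P.1, σ a = 1 → a = 1 := fun a ha e' => by
    by_contra ha1
    exact hDZ a (Conf.mem_D ha ha1) (hσker ▸ MonoidHom.mem_ker.2 e')
  have hcardP : Nat.card (P.1.map σ) = Fintype.card F := by
    have h1 : Nat.card (P.1.map σ) = Nat.card P.1 := by
      refine (Nat.card_eq_of_bijective (σ.subgroupMap P.1) ⟨?_, MonoidHom.subgroupMap_surjective _ _⟩).symm
      rw [← MonoidHom.ker_eq_bot_iff, Subgroup.eq_bot_iff_forall]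
      intro a ha
      exact Subtype.ext (hinj a a.2 (congrArg Subtype.val ha))
    have h2 : Subtype.val '' (P.1 : Set X) = insert 1 (cls D d) := by
      ext w
      constructor
      · rintro ⟨y, hy, rfl⟩
        exact (hP y).1 hy
      · intro hw
        have hwX : w ∈ X := hw.elim (fun e' => e' ▸ one_mem _) fun e' => mem_clX_left e'
        exact ⟨⟨w, hwX⟩, (hP _).2 hw, rfl⟩
    have h3 := congrArg Set.ncard h2
    rw [Set.ncard_image_of_injective _ Subtype.val_injective,
      Set.ncard_insert_of_notMem (fun h1 => h.base.ne _ h1.1 rfl) (Set.toFinite _),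
      ← Nat.card_coe_set_eq] at h3
    rw [h1, hF]
    exact h3
  have hmap : (S : Subgroup X).map σ = P.1.map σ := by
    refine (Subgroup.eq_of_le_of_card_ge (Subgroup.map_mono hS) ?_).symm
    rw [hcardP]
    have h1 : Nat.card ((S : Subgroup X).map σ) ∣
        Fintype.card F * ((Fintype.card F - 1) * (Fintype.card F + 1)) := by
      rw [← mul_assoc, ← Linear.card_PSL_two_of_even hev]
      exact Subgroup.card_subgroup_dvd_card _
    obtain ⟨k, hk⟩ := IsPGroup.iff_card.1 (S.isPGroup'.map σ)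
    have hodd : Nat.Coprime (Nat.card ((S : Subgroup X).map σ))
        ((Fintype.card F - 1) * (Fintype.card F + 1)) := by
      rw [hk]
      refine Nat.Coprime.pow_left _ (Nat.coprime_two_left.2 (Nat.odd_mul.2 ⟨?_, ?_⟩))
      · exact Nat.Even.sub_odd Fintype.card_pos hev odd_one
      · exact hev.add_one
    exact Nat.le_of_dvd Fintype.card_pos (hodd.dvd_of_dvd_mul_right h1)
  have hcomm : ⁅(S : Subgroup X), (S : Subgroup X)⁆ = ⊥ := by
    rw [Subgroup.commutator_eq_bot_iff_le_centralizer]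
    have hdec : ∀ g ∈ (S : Subgroup X), ∃ a ∈ P.1, ∃ z ∈ Subgroup.center X, g = a * z := fun g hg => by
      obtain ⟨a, ha, e'⟩ := hmap ▸ Subgroup.mem_map_of_mem σ hg
      refine ⟨a, ha, a⁻¹ * g, ?_, by rw [mul_inv_cancel_left]⟩
      rw [← hσker, MonoidHom.mem_ker, map_mul, map_inv, e', inv_mul_cancel]
    intro g hg w hw
    obtain ⟨a, ha, z, hz, rfl⟩ := hdec g hg
    obtain ⟨b, hb, z', hz', rfl⟩ := hdec w hw
    have h1 : Commute (b * z') (a * z) :=
      ((Conf.commute_mem (h := hC) (P := P) hb ha).mul_right (Subgroup.mem_center_iff.1 hz b)).mul_left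
        (Commute.symm (Subgroup.mem_center_iff.1 hz' (a * z)))
    exact h1.eq
  have hodd : Odd (Nat.card σ.ker) :=
    Nat.not_even_iff_odd.1 fun h2 =>
      Multiplier.not_dvd_card_ker_of_comm σ hσ S hcomm (even_iff_two_dvd.1 h2)
  refine ⟨F, iF, iT, hF, ⟨MulEquiv.ofBijective σ ⟨?_, hσ.1⟩⟩⟩
  by_cases h4 : Fintype.card F = 4
  · refine Core.injective_of_small hσ hodd fun p hp hdvd => ?_
    rw [Linear.card_PSL_two_of_even hev, h4] at hdvd
    have hle : p ^ 2 ≤ 60 := Nat.le_of_dvd (by norm_num) hdvd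
    have h8 : p < 8 := by nlinarith
    interval_cases p <;> first | rfl | (revert hp; norm_num; done) | (revert hdvd; norm_num; done)
  · refine Multiplier.injective_of_trivial ?_ _ hσ
    have hc := Schur.MultiplierSL.psl_cyclic (F := F) (n := 2) le_rfl
      (fun _ => by rw [Nat.card_eq_fintype_card]; exact hq4) (by
        rw [Nat.card_eq_fintype_card]
        have h9 : Fintype.card F ≠ 9 := fun e9 => by rw [e9] at hev; exact absurd hev (by decide)
        simp only [Set.mem_insert_iff, Set.mem_singleton_iff, Prod.mk.injEq]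
        omega)
    have hg : Nat.gcd 2 (Nat.card F - 1) = 1 := by
      rw [Nat.card_eq_fintype_card]
      obtain ⟨k, hk⟩ := hev
      exact (Nat.coprime_two_left.2 ⟨k - 1, by omega⟩)
    rwa [hg] at hc

end Cfsg.Agent.Lib.OddTransp84.Root
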