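import Cfsg.Agent.Lib.OddTransp84.Root.Line

/-!
Suzuki data on a thin line: the products `y · g y g⁻¹` centralise the class.
-/

set_option autoImplicit false

namespace Cfsg.Agent.Lib.OddTransp84.Root

open Cfsg.Agent.Lib.OddTransp84 Cfsg.Agent.Lib.OddTransp84.Reduction
open Cfsg.Agent.Lib.OddTransp84.Core Cfsg.Agent.Lib

universe u

variable {G : Type u} [Group G] [Finite G] {D : Set G}

namespace SzData

variable {d x : G} {T : Subgroup G} {t : G} (hS : SzData D d x T t)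
include hS

omit [Finite G] in
lemma tinv : t⁻¹ = t := inv_eq_of_mul_eq_one_right hS.tsq

omit [Finite G] in
lemma tconj (w : G) : t * w * t⁻¹ = t * w * t := by rw [hS.tinv]

omit [Finite G] in
lemma tx : t * x * t = d := by
  rw [← hS.tswap, show t * (t * d * t) * t = t * t * d * (t * t) by group, hS.tsq, one_mul, mul_one]

lemma fixd {g : G} (hg : g ∈ T) (hd : d ∈ D) : g * d * g⁻¹ = d := by
  rw [(hS.centr g hg d (cls_self hd)).eq, mul_inv_cancel_right]

end SzData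

namespace TH

variable {d x r : G} (hT : TH D d x) (h : Std D) (hr : r ∈ D) (hrd : Commute r d) (hrx : Commute r x)
variable {T : Subgroup G} {t : G} (hS : SzData D d x T t)
include hT h hr hrd hrx hS

lemma T_le_ln {g : G} (hg : g ∈ T) : g ∈ ln D d x r :=
  hT.clX_le_ln h hr hrd hrx (hS.le hg)

lemma t_mem_ln : t ∈ ln D d x r := hT.clX_le_ln h hr hrd hrx hS.tmem

lemma ab_T {g u : G} (hg : g ∈ T) (hu : u ∈ ab (nb D r d) d) : g * u * g⁻¹ ∈ ab (nb D r d) d := by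
  have h1 := hT.ab_ln h hr hrd hrx (hT.T_le_ln h hr hrd hrx hS hg) hu
  rwa [hS.fixd hg hT.dmem] at h1

/-- Commutators of the part of `x` and its image under `T` are central. -/
lemma W_comm_conj {g y y' : G} (hg : g ∈ T) (hy : y ∈ lnV D d x r)
    (hyx : y ∈ ab (nb D r d) x) (hy' : y' ∈ lnV D d x r) (hy'x : y' ∈ ab (nb D r d) x) :
    Cent (ln D d x r) (y * (g * y' * g⁻¹) * y⁻¹ * (g * y' * g⁻¹)⁻¹) := by
  have hgl := hT.T_le_ln h hr hrd hrx hS hg
  have hx1 := hT.x_mem h.base hrd hrx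
  have hd1 := hT.self_mem h.base hrd hrx
  have hth := hT.nb_thin h hr hrd hrx
  have hc1 := hT.ln_conj h hr hrd hrx hgl hx1
  have hu := hT.ab_ln h hr hrd hrx hgl hy'x
  have huV := hT.lnV_conj h hgl hy'
  by_cases hcx : Commute (g * x * g⁻¹) x
  · rw [ab_eq hth hc1 hx1 hcx] at hu
    rw [(ab_comm hth hx1 hyx hu).eq, mul_inv_cancel_right, mul_inv_cancel]
    exact fun e _ => Commute.one_left e
  have hσ : t * g ∈ clX (cls D d) x := mul_mem hS.tmem (hS.le hg)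
  have he : t * g * x * (t * g)⁻¹ = t * (g * x * g⁻¹) * t := by
    rw [mul_inv_rev, hS.tinv]; group
  obtain ⟨g₁, hg₁, hg₁e⟩ := hS.trans _ hσ (by
    rw [he]
    intro e
    apply hcx
    have h1 := (commute_conj_iff t).2 e
    rwa [hS.tinv, hS.tswap, show t * (t * (g * x * g⁻¹) * t) * t = t * t * (g * x * g⁻¹) * (t * t) by
      group, hS.tsq, one_mul, mul_one] at h1)
  rw [he] at hg₁e
  have hg₁l := hT.T_le_ln h hr hrd hrx hS hg₁
  have hσl : t * g₁ ∈ ln D d x r := mul_mem (hT.t_mem_ln h hr hrd hrx hS) hg₁l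
  have e1 : (t * g₁)⁻¹ * x * (t * g₁)⁻¹⁻¹ = d := by
    rw [inv_inv, mul_inv_rev, hS.tinv, show g₁⁻¹ * t * x * (t * g₁) = g₁⁻¹ * (t * x * t) * g₁ by group,
      hS.tx]
    have := hS.fixd (inv_mem hg₁) hT.dmem
    rwa [inv_inv] at this
  have hcc : Commute ((t * g₁)⁻¹ * (g * x * g⁻¹) * (t * g₁)⁻¹⁻¹) x := by
    rw [inv_inv, mul_inv_rev, hS.tinv,
      show g₁⁻¹ * t * (g * x * g⁻¹) * (t * g₁) = g₁⁻¹ * (t * (g * x * g⁻¹) * t) * g₁⁻¹⁻¹ by group]
    have hD' : t * (g * x * g⁻¹) * t ∈ D := by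
      rw [← hS.tconj]; exact h.conjD t (h.conjD g hT.xmem)
    have h1 : Commute (t * (g * x * g⁻¹) * t) (g₁ * x * g₁⁻¹) :=
      (hg₁e _ hD').2 (Commute.refl _)
    have h2 := (commute_conj_iff g₁⁻¹).2 h1
    rwa [show g₁⁻¹ * (g₁ * x * g₁⁻¹) * g₁⁻¹⁻¹ = x by group] at h2
  have hw := hT.ab_ln h hr hrd hrx (inv_mem hσl) hyx
  rw [e1] at hw
  have hv := hT.ab_ln h hr hrd hrx (inv_mem hσl) hu
  rw [ab_eq hth (hT.ln_conj h hr hrd hrx (inv_mem hσl) hc1) hx1 hcc] at hv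
  have hc := hT.W_comm h hr hrd hrx (hT.lnV_conj h (inv_mem hσl) hy) hw
    (hT.lnV_conj h (inv_mem hσl) huV) hv
  intro e hel
  have h1 := hc ((t * g₁)⁻¹ * e * (t * g₁)⁻¹⁻¹) (mul_mem (mul_mem (inv_mem hσl) hel) (inv_mem (inv_mem hσl)))
  apply (commute_conj_iff (t * g₁)⁻¹).1
  simpa [mul_assoc] using h1

/-- The products `y · g y g⁻¹` centralise the class. -/
lemma key {T0 : Subgroup G}
    (h2 : ∀ a ∈ cls D d, ∀ c ∈ cq D r d, c * a ∈ T0 → c ∈ cls D d) {g y : G} (hg : g ∈ T)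
    (hK : ∀ c ∈ cq D r d, c * (g * c * g⁻¹) ∈ T0) (hy : y ∈ lnV D d x r)
    (hyx : y ∈ ab (nb D r d) x)
    (hyz : ∀ z ∈ T, Cent (clX (cls D d) x) z → Cent (clX (cls D d) x) (z * y * z⁻¹ * y)) :
    ∀ a ∈ cls D d, Commute (y * (g * y * g⁻¹)) a := by
  have hD := h.base
  have hth := hT.nb_thin h hr hrd hrx
  have hNB := hT.nb_base h hr hrd hrx
  have hd1 := hT.self_mem h.base hrd hrx
  have hx1 := hT.x_mem h.base hrd hrx
  have hgl := hT.T_le_ln h hr hrd hrx hS hg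
  have hgX := hS.le hg
  have hy2 : y * y = 1 := ab_sq hNB hth hx1 hyx
  have hyi : y⁻¹ = y := inv_eq_of_mul_eq_one_right hy2
  have hy1V := hT.lnV_conj h hgl hy
  have habd : ∀ a ∈ cls D d, a ∈ ab (nb D r d) d := fun a ha =>
    mem_ab (hT.cls_sub_cq h hr hrd hrx ha).1 (hT.cls_sub_cq h hr hrd hrx ha).2
  have hconjy : ∀ a ∈ cls D d, y * a * y ∈ ab (nb D r d) d := fun a ha => by
    obtain ⟨⟨h1, h1'⟩, -⟩ := hT.cq_conjV h hr hrd hrx (hT.cls_sub_cq h hr hrd hrx ha) hy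
    rw [hyi] at h1 h1'
    exact mem_ab h1 h1'
  -- the effect of a central part
  have hz : ∀ z, Cent (clX (cls D d) x) z → z ∈ T →
      ∃ e, z * y * z⁻¹ = e * y ∧ Cent (clX (cls D d) x) e ∧ e ∈ ab (nb D r d) x ∧
        e ∈ lnV D d x r := by
    intro z hzc hzT
    have hzl := hT.T_le_ln h hr hrd hrx hS hzT
    have h1 := hT.ab_ln h hr hrd hrx hzl hyx
    rw [(hzc x mem_clX_right).eq, mul_inv_cancel_right] at h1
    exact ⟨z * y * z⁻¹ * y, by rw [mul_assoc (z * y * z⁻¹), hy2, mul_one], hyz z hzT hzc,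
      mul_mem h1 hyx, mul_mem (hT.lnV_conj h hzl hy) hy⟩
  rcases hS.sq g hg with ⟨a, ha, z, hzc, hgg⟩ | ⟨a', ha', z, hzc, hge⟩
  · have hzT : z ∈ T := by
      rw [show z = a⁻¹ * (g * g) by rw [hgg, inv_mul_cancel_left]]
      exact mul_mem (inv_mem (hS.cls_le a ha)) (mul_mem hg hg)
    obtain ⟨e, hze, hec, hex, heV⟩ := hz z hzc hzT
    have ha2 : a * a = 1 := hD.inv a ha.1
    have hag : Commute a g := (hS.centr g hg a ha).symm
    have hai : a⁻¹ = a := hD.inv_self ha.1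
    have haX : a ∈ clX (cls D d) x := mem_clX_left ha
    have hal : a ∈ ln D d x r := hT.clX_le_ln h hr hrd hrx haX
    set y₁ := g * y * g⁻¹ with hy₁
    set y₂ := a * y₁ * a with hy₂
    have hy₁2 : y₁ * y₁ = 1 := by rw [hy₁, conj_sq hy2 g]
    have hy₂2 : y₂ * y₂ = 1 := by
      have := conj_sq hy₁2 a
      rwa [hai] at this
    have hy₁i : y₁⁻¹ = y₁ := inv_eq_of_mul_eq_one_right hy₁2
    have hy₂l : y₂ ∈ ln D d x r := mul_mem (mul_mem hal (hT.lnV_le h hy1V)) hal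
    have e2 : y₂ = e * (g⁻¹ * y * g) := by
      have e3 : z = a * (g * g) := by rw [hgg, ← mul_assoc, ha2, one_mul]
      calc y₂ = g⁻¹ * (g * a) * (g * y * g⁻¹) * (g⁻¹ * (g * a)) := by rw [hy₂, hy₁]; group
        _ = g⁻¹ * (a * g) * (g * y * g⁻¹) * (g⁻¹ * (a * g)) := by rw [hag.eq]
        _ = g⁻¹ * (z * y * z⁻¹) * g := by
          rw [e3, mul_inv_rev, mul_inv_rev, hai]; group
        _ = g⁻¹ * e * g * (g⁻¹ * y * g) := by rw [hze]; group
        _ = e * (g⁻¹ * y * g) := by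
          rw [show g⁻¹ * e * g = g⁻¹ * (e * g) by group, (hec g hgX).eq, inv_mul_cancel_left]
    have hc1 := hT.W_comm_conj h hr hrd hrx hS hg hy hyx hy hyx
    have hc2 := hT.W_comm_conj h hr hrd hrx hS (inv_mem hg) hy hyx hy hyx
    rw [inv_inv] at hc2
    rw [← hy₁] at hc1
    set c2 := y * (g⁻¹ * y * g) * y⁻¹ * (g⁻¹ * y * g)⁻¹ with hc2def
    have e4 : y₁ * y * y₁⁻¹ * y⁻¹ = c2 := by
      have := (hc2 g hgl)
      calc y₁ * y * y₁⁻¹ * y⁻¹ = g * c2 * g⁻¹ := by rw [hy₁, hc2def]; group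
        _ = c2 := by rw [← this.eq, mul_inv_cancel_right]
    have e5 : y * y₂ * y⁻¹ = c2 * y₂ := by
      have hey : Commute e y := ab_comm hth hx1 hex hyx
      have hce : Commute c2 e := hc2 e (hT.lnV_le h heV)
      calc y * y₂ * y⁻¹ = y * e * (g⁻¹ * y * g) * y⁻¹ := by rw [e2]; group
        _ = e * c2 * (g⁻¹ * y * g) := by rw [← hey.eq, hc2def]; group
        _ = c2 * y₂ := by rw [← hce.eq, mul_assoc, ← e2]
    have e6 : y * y₁ * y⁻¹ = c2⁻¹ * y₁ := by rw [← e4]; group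
    have hyy : Commute y (y₂ * y₁) := by
      refine mul_inv_eq_iff_eq_mul.1 ?_
      calc y * (y₂ * y₁) * y⁻¹ = y * y₂ * y⁻¹ * (y * y₁ * y⁻¹) := by group
        _ = c2 * y₂ * c2⁻¹ * y₁ := by rw [e5, e6]; group
        _ = y₂ * y₁ := by rw [(hc2 y₂ hy₂l).eq, mul_inv_cancel_right]
    set w := a * y * a * y with hw
    have hwd : w ∈ ab (nb D r d) d := by
      rw [hw, show a * y * a * y = a * (y * a * y) by group]
      exact mul_mem (habd a ha) (hconjy a ha)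
    have hgw : g * w * g⁻¹ = y₂ * y₁ := by
      calc g * w * g⁻¹ = (g * a) * y * g⁻¹ * ((g * a) * g⁻¹) * (g * y * g⁻¹) := by rw [hw]; group
        _ = (a * g) * y * g⁻¹ * ((a * g) * g⁻¹) * (g * y * g⁻¹) := by rw [hag.eq]
        _ = y₂ * y₁ := by rw [hy₂, hy₁]; group
    have hgwd := hT.ab_T h hr hrd hrx hS hg hwd
    have hgw2 : y₁ * y₂ = g * w * g⁻¹ := by
      rw [← inv_eq_of_mul_eq_one_right (ab_sq hNB hth hd1 hgwd), hgw, mul_inv_rev,
        inv_eq_of_mul_eq_one_right hy₂2, hy₁i]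
    have hδ : ∀ w ∈ ab (nb D r d) d, w * (g * w * g⁻¹) ∈ T0 := by
      intro w hw
      induction hw using Subgroup.closure_induction with
      | mem c hc => exact hK c ⟨hc.1, hc.2⟩
      | one => simp
      | inv p hp ih =>
        rw [inv_eq_of_mul_eq_one_right (ab_sq hNB hth hd1 hp)]
        exact ih
      | mul p q hp hq ihp ihq =>
        have hc := ab_comm hth hd1 (hT.ab_T h hr hrd hrx hS hg hp) hq
        rw [show p * q * (g * (p * q) * g⁻¹) = p * (q * (g * p * g⁻¹)) * (g * q * g⁻¹) by group,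
          ← hc.eq, show p * (g * p * g⁻¹ * q) * (g * q * g⁻¹)
            = p * (g * p * g⁻¹) * (q * (g * q * g⁻¹)) by group]
        exact mul_mem ihp ihq
    have hv : y * y₁ ∈ lnV D d x r := mul_mem hy hy1V
    have hca : y * y₁ * a * (y * y₁)⁻¹ * a ∈ T0 := by
      have e7 : y * y₁ * a * (y * y₁)⁻¹ * a = y * (y₁ * y₂) * (a * y * a) := by
        rw [mul_inv_rev, hy₁i, hyi, hy₂,
          show y * (y₁ * (a * y₁ * a)) * (a * y * a) = y * y₁ * a * y₁ * (a * a) * (y * a) by group,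
          ha2, mul_one]
        group
      have hwi : y * (a * y * a) = w⁻¹ := by rw [hw, mul_inv_rev, mul_inv_rev, mul_inv_rev, hyi, hai]; group
      rw [e7, hgw2, hgw, hyy.eq, ← hgw, mul_assoc, hwi,
        inv_eq_of_mul_eq_one_right (ab_sq hNB hth hd1 hwd), (ab_comm hth hd1 hgwd hwd).eq]
      exact hδ w hwd
    obtain ⟨hccq, -⟩ := hT.cq_conjV h hr hrd hrx (hT.cls_sub_cq h hr hrd hrx ha) hv
    exact hT.comm_cls_all h hr hrd hrx ha hv
      (hT.comm_cls h hr hrd hrx ha hv (h2 a ha _ hccq hca))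
  · have ha'2 : a' * a' = 1 := by
      rcases ha' with rfl | ha'
      exacts [one_mul 1, hD.inv _ ha'.1]
    have ha'T : a' ∈ T := ha'.elim (fun e => e ▸ one_mem _) (hS.cls_le a')
    have hzT : z ∈ T := by
      rw [show z = a'⁻¹ * g by rw [hge, inv_mul_cancel_left]]
      exact mul_mem (inv_mem ha'T) hg
    obtain ⟨e, hze, hec, hex, -⟩ := hz z hzc hzT
    have hai : a'⁻¹ = a' := inv_eq_of_mul_eq_one_right ha'2
    have e1 : y * (g * y * g⁻¹) = e * (y * a' * y * a') := by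
      rw [hge, show a' * z * y * (a' * z)⁻¹ = a' * (z * y * z⁻¹) * a'⁻¹ by group, hze, hai]
      calc y * (a' * (e * y) * a') = y * (a' * e) * y * a' := by group
        _ = y * (e * a') * y * a' := by rw [← (hec a' (hS.le ha'T)).eq]
        _ = y * e * a' * y * a' := by group
        _ = e * (y * a' * y * a') := by rw [← (ab_comm hth hx1 hex hyx).eq]; group
    intro a ha
    rw [e1]
    refine (hec a (mem_clX_left ha)).mul_left (ab_comm hth hd1 ?_ (habd a ha))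
    rcases ha' with rfl | ha'
    · rw [mul_one, mul_one, hy2]; exact one_mem _
    · exact mul_mem (hconjy a' ha') (habd a' ha')

end TH

end Cfsg.Agent.Lib.OddTransp84.Root
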