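import Cfsg.Agent.Lib.OddTransp84.Root.Residue

/-!
The line through two non-commuting members at a common neighbour: the parts of its largest normal
2-subgroup in the groups of two points.
-/

set_option autoImplicit false

namespace Cfsg.Agent.Lib.OddTransp84.Root

open Cfsg.Agent.Lib.OddTransp84 Cfsg.Agent.Lib.OddTransp84.Reduction
open Cfsg.Agent.Lib.OddTransp84.Core Cfsg.Agent.Lib

universe u

variable {G : Type u} [Group G] {D S : Set G}

/-- The group generated by the members of `S` commuting with `c`. -/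
def ab (S : Set G) (c : G) : Subgroup G := Subgroup.closure {e | e ∈ S ∧ Commute e c}

lemma mem_ab {c e : G} (he : e ∈ S) (hc : Commute e c) : e ∈ ab S c :=
  Subgroup.subset_closure ⟨he, hc⟩

lemma ab_comm (htr : ¬ Thick S) {c u v : G} (hc : c ∈ S) (hu : u ∈ ab S c) (hv : v ∈ ab S c) :
    Commute u v := by
  have h1 : ∀ e ∈ S, Commute e c → ab S c ≤ Subgroup.centralizer {e} := fun e he hec =>
    (Subgroup.closure_le _).2 fun e' he' => Subgroup.mem_centralizer_singleton_iff.2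
      (trans_of_thin htr he'.1 hc he he'.2 hec.symm).eq
  have h2 : ab S c ≤ Subgroup.centralizer {u} := (Subgroup.closure_le _).2 fun e he =>
    Subgroup.mem_centralizer_singleton_iff.2
      (Subgroup.mem_centralizer_singleton_iff.1 (h1 e he.1 he.2 hu)).symm
  exact (Subgroup.mem_centralizer_singleton_iff.1 (h2 hv)).symm

lemma ab_sq (hS : Base S) (htr : ¬ Thick S) {c u : G} (hc : c ∈ S) (hu : u ∈ ab S c) :
    u * u = 1 := by
  induction hu using Subgroup.closure_induction with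
  | mem e he => exact hS.inv e he.1
  | one => exact one_mul 1
  | inv p _ ih => rw [← mul_inv_rev, ih, inv_one]
  | mul p q hp hq ihp ihq =>
    rw [(ab_comm htr hc hq hp).mul_mul_mul_comm, ihp, ihq, one_mul]

lemma ab_eq (htr : ¬ Thick S) {c c' : G} (hc : c ∈ S) (hc' : c' ∈ S) (hcc : Commute c c') :
    ab S c = ab S c' := by
  unfold ab
  congr 1
  ext e
  exact ⟨fun he => ⟨he.1, trans_of_thin htr he.1 hc hc' he.2 hcc⟩,
    fun he => ⟨he.1, trans_of_thin htr he.1 hc' hc he.2 hcc.symm⟩⟩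

lemma ab_conj {σ : G} (hσ : ∀ e ∈ S, σ * e * σ⁻¹ ∈ S) {c u : G} (hu : u ∈ ab S c) :
    σ * u * σ⁻¹ ∈ ab S (σ * c * σ⁻¹) := by
  have h1 : ab S c ≤ (ab S (σ * c * σ⁻¹)).comap (MulAut.conj σ).toMonoidHom :=
    (Subgroup.closure_le _).2 fun e he => mem_ab (hσ e he.1) ((commute_conj_iff σ).2 he.2)
  exact h1 hu

/-- A member times a central involution is not a member, relative to a further member. -/
lemma eq_one_of_mul (hD : Base D) {c c' x w : G} (hc : c ∈ D) (hc' : c' ∈ D) (hx : x ∈ D)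
    (hcx : ¬ Commute c x) (hc'x : ¬ Commute c' x) (e : c' = w * c) (hw : w * w = 1)
    (hwc : Commute w c) (hwx : Commute w x) : w = 1 := by
  obtain ⟨N, hN⟩ := hD.odd_of_not hc hx hcx
  obtain ⟨M, hM⟩ := hD.odd_of_not hc' hx hc'x
  have h1 : (c' * x) ^ ((2 * M + 1) * (2 * N + 1)) = 1 := by
    rw [← hM, pow_mul, pow_orderOf_eq_one, one_pow]
  have hn : (c * x) ^ ((2 * M + 1) * (2 * N + 1)) = 1 := by
    rw [← hN, mul_comm, pow_mul, pow_orderOf_eq_one, one_pow]
  rw [e, mul_assoc, (hwc.mul_right hwx).mul_pow, hn, mul_one,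
    show (2 * M + 1) * (2 * N + 1) = 2 * (2 * M * N + M + N) + 1 by ring, pow_succ, pow_mul,
    pow_two, hw, one_pow, one_mul] at h1
  exact h1

/-- The elements centralising a subgroup, as a subgroup. -/
lemma cent_iff {X : Subgroup G} {z : G} : Cent X z ↔ z ∈ Subgroup.centralizer (X : Set G) := by
  rw [Subgroup.mem_centralizer_iff]
  exact ⟨fun h e he => (h e he).eq.symm, fun h e he => (h e he).symm⟩

/-- The line of `d` and `x` at `r`. -/
abbrev ln (D : Set G) (d x r : G) : Subgroup G := clX (cq D r d) x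

/-- Its largest normal 2-subgroup. -/
def lnV (D : Set G) (d x r : G) : Subgroup G :=
  (Cfsg.pCore 2 ↥(ln D d x r)).map (ln D d x r).subtype

variable [Finite G]

namespace TH

variable {d x r : G} (hT : TH D d x) (h : Std D) (hr : r ∈ D) (hrd : Commute r d) (hrx : Commute r x)
include hT h hr hrd hrx

lemma nb_base : Base (nb D r d) := ncomp_base (h.base.nbhd_base hr)

lemma nb_thin : ¬ Thick (nb D r d) := hT.thin r hr hrd hrx

lemma d_mem_cq : d ∈ cq D r d := ⟨hT.self_mem h.base hrd hrx, Commute.refl d⟩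

lemma gen_ln :
    Gen (orb (ln D d x r) x)
        (⟨d, mem_clX_left (hT.d_mem_cq h hr hrd hrx)⟩ : ln D d x r) ⟨x, mem_clX_right⟩ ∧
      ∀ e (he : e ∈ cq D r d), (⟨e, mem_clX_left he⟩ : ln D d x r) ∈
        cls (orb (ln D d x r) x)
          (⟨d, mem_clX_left (hT.d_mem_cq h hr hrd hrx)⟩ : ln D d x r) := by
  have hth := hT.nb_thin h hr hrd hrx
  have hd1 := hT.self_mem h.base hrd hrx
  refine gen_sub (hT.nb_base h hr hrd hrx) (fun _ he => he.1) (hT.d_mem_cq h hr hrd hrx)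
    (hT.x_mem h.base hrd hrx) (fun e he v hv => ?_) hT.nc
  have hv1 := orb_mem (hT.nb_base h hr hrd hrx) (fun _ he => he.1) (hT.x_mem h.base hrd hrx) hv
  exact ⟨fun e1 => trans_of_thin hth hv1 hd1 he.1 e1 he.2.symm,
    fun e1 => trans_of_thin hth hv1 he.1 hd1 e1 he.2⟩

lemma ln_conj {σ e : G} (hσ : σ ∈ ln D d x r) (he : e ∈ nb D r d) : σ * e * σ⁻¹ ∈ nb D r d :=
  (hT.nb_base h hr hrd hrx).conj_mem
    (clX_le (fun _ he => he.1) (hT.x_mem h.base hrd hrx) hσ) he

lemma ab_ln {σ c u : G} (hσ : σ ∈ ln D d x r) (hu : u ∈ ab (nb D r d) c) :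
    σ * u * σ⁻¹ ∈ ab (nb D r d) (σ * c * σ⁻¹) :=
  ab_conj (fun _ he => hT.ln_conj h hr hrd hrx hσ he) hu

lemma clX_le_ln : clX (cls D d) x ≤ ln D d x r :=
  Subgroup.closure_mono (Set.union_subset_union_left _ fun _ ha =>
    hT.cls_sub_cq h hr hrd hrx ha)

omit hr hrd hrx in
lemma lnV_le : lnV D d x r ≤ ln D d x r := Subgroup.map_subtype_le _

omit hr hrd hrx in
lemma lnV_conj {σ v : G} (hσ : σ ∈ ln D d x r) (hv : v ∈ lnV D d x r) :
    σ * v * σ⁻¹ ∈ lnV D d x r := by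
  obtain ⟨q, hq, rfl⟩ := hv
  exact ⟨⟨σ, hσ⟩ * q * ⟨σ, hσ⟩⁻¹, (inferInstance : (Cfsg.pCore 2 ↥(ln D d x r)).Normal).conj_mem q hq _,
    rfl⟩

lemma orb_notV {e : ln D d x r} (he : e ∈ orb (ln D d x r) x) : (e : G) ∉ lnV D d x r := by
  rintro ⟨q, hq, hqe⟩
  obtain rfl : q = e := Subtype.ext hqe
  exact (hT.gen_ln h hr hrd hrx).1.quotient.ne _ ⟨q, he, rfl⟩
    ((QuotientGroup.eq_one_iff q).2 hq)

lemma cq_notV {c : G} (hc : c ∈ cq D r d) : c ∉ lnV D d x r :=
  hT.orb_notV h hr hrd hrx (e := ⟨c, mem_clX_left hc⟩) ((hT.gen_ln h hr hrd hrx).2 c hc).1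

lemma commute_conjV {e : ln D d x r} (he : e ∈ orb (ln D d x r) x) {v : G}
    (hv : v ∈ lnV D d x r) : Commute (v * e * v⁻¹) (e : G) := by
  obtain ⟨q, hq, rfl⟩ := hv
  have hG := (hT.gen_ln h hr hrd hrx).1
  have h1 := hG.commute_of_map (hG.conj q e he) he (by
    rw [map_mul, map_mul, map_inv,
      show QuotientGroup.mk' (Cfsg.pCore 2 ↥(ln D d x r)) q = 1 from (QuotientGroup.eq_one_iff q).2 hq,
      one_mul, inv_one, mul_one])
  exact congrArg Subtype.val h1.eq

lemma lnV_norm {e : ln D d x r} (he : e ∈ orb (ln D d x r) x) {v u : G}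
    (hv : v ∈ lnV D d x r) (hu : u ∈ ab (nb D r d) e) : v * u * v⁻¹ ∈ ab (nb D r d) e := by
  have h1 := hT.ab_ln h hr hrd hrx (hT.lnV_le h hv) hu
  have he1 : (e : G) ∈ nb D r d :=
    orb_mem (hT.nb_base h hr hrd hrx) (fun _ he => he.1) (hT.x_mem h.base hrd hrx) he
  rwa [ab_eq (hT.nb_thin h hr hrd hrx) (hT.ln_conj h hr hrd hrx (hT.lnV_le h hv) he1) he1
    (hT.commute_conjV h hr hrd hrx he hv)] at h1

lemma cq_conjV {c v : G} (hc : c ∈ cq D r d) (hv : v ∈ lnV D d x r) :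
    v * c * v⁻¹ ∈ cq D r d ∧ v * c * v⁻¹ * c ∈ lnV D d x r := by
  have h1 := hT.commute_conjV h hr hrd hrx
    (e := ⟨c, mem_clX_left hc⟩) ((hT.gen_ln h hr hrd hrx).2 c hc).1 hv
  have hvc := hT.ln_conj h hr hrd hrx (hT.lnV_le h hv) hc.1
  refine ⟨⟨hvc, trans_of_thin (hT.nb_thin h hr hrd hrx) hvc hc.1 (hT.self_mem h.base hrd hrx) h1
    hc.2⟩, ?_⟩
  have h2 := hT.lnV_conj h (mem_clX_left hc) (inv_mem hv)
  rw [show v * c * v⁻¹ * c = v * (c * v⁻¹ * c⁻¹) by
    rw [h.base.inv_self (nb_subset hc.1)]; group]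
  exact mul_mem hv h2

lemma inter_central {u : G} (hd' : u ∈ ab (nb D r d) d) (hx' : u ∈ ab (nb D r d) x) :
    Cent (ln D d x r) u := by
  have h1 : ln D d x r ≤ Subgroup.centralizer {u} := (Subgroup.closure_le _).2 (by
    rintro e (he | rfl)
    · exact Subgroup.mem_centralizer_singleton_iff.2
        (ab_comm (hT.nb_thin h hr hrd hrx) (hT.self_mem h.base hrd hrx) (mem_ab he.1 he.2) hd').eq
    · exact Subgroup.mem_centralizer_singleton_iff.2
        (ab_comm (hT.nb_thin h hr hrd hrx) (hT.x_mem h.base hrd hrx)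
          (mem_ab (hT.x_mem h.base hrd hrx) (Commute.refl _)) hx').eq)
  exact fun e he => (Subgroup.mem_centralizer_singleton_iff.1 (h1 he)).symm

lemma cent_of_comm {u : G} (hu : u ∈ ab (nb D r d) d) (hux : Commute u x) :
    Cent (ln D d x r) u := by
  have h1 : ln D d x r ≤ Subgroup.centralizer {u} := (Subgroup.closure_le _).2 (by
    rintro e (he | rfl)
    · exact Subgroup.mem_centralizer_singleton_iff.2
        (ab_comm (hT.nb_thin h hr hrd hrx) (hT.self_mem h.base hrd hrx) (mem_ab he.1 he.2) hu).eq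
    · exact Subgroup.mem_centralizer_singleton_iff.2 hux.eq.symm)
  exact fun e he => (Subgroup.mem_centralizer_singleton_iff.1 (h1 he)).symm

/-- Commutators of the parts of two points are central. -/
lemma W_comm {w y : G} (hw : w ∈ lnV D d x r) (hwd : w ∈ ab (nb D r d) d)
    (hy : y ∈ lnV D d x r) (hyx : y ∈ ab (nb D r d) x) :
    Cent (ln D d x r) (w * y * w⁻¹ * y⁻¹) := by
  have hG := (hT.gen_ln h hr hrd hrx).1
  refine hT.inter_central h hr hrd hrx ?_ ?_
  · rw [show w * y * w⁻¹ * y⁻¹ = w * (y * w⁻¹ * y⁻¹) by group]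
    exact mul_mem hwd (hT.lnV_norm h hr hrd hrx hG.dmem hy (inv_mem hwd))
  · exact mul_mem (hT.lnV_norm h hr hrd hrx hG.xmem hw hyx) (inv_mem hyx)

/-- A member of the class is centralised by an element of the 2-core once it is fixed. -/
lemma comm_cls {v a : G} (ha : a ∈ cls D d) (hv : v ∈ lnV D d x r)
    (hva : v * a * v⁻¹ ∈ cls D d) : Commute v a := by
  have hcq := hT.cls_sub_cq h hr hrd hrx ha
  obtain ⟨-, h2⟩ := hT.cq_conjV h hr hrd hrx hcq hv
  refine mul_inv_eq_iff_eq_mul.1 ?_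
  by_contra hne
  exact hT.cq_notV h hr hrd hrx
    (hT.cls_sub_cq h hr hrd hrx (h.mul_mem_cls hT.dmem hva ha hne)) h2

lemma comm_cls_all {v a : G} (ha : a ∈ cls D d) (hv : v ∈ lnV D d x r) (hva : Commute v a) :
    ∀ a' ∈ cls D d, Commute v a' := by
  intro a' ha'
  refine hT.comm_cls h hr hrd hrx ha' hv ⟨h.conjD v ha'.1, ?_⟩
  have h1 := h.eqvc v (ha.2.symm.trans ha'.2)
  rw [hva.eq, mul_inv_cancel_right] at h1
  exact ha.2.trans h1

end TH

end Cfsg.Agent.Lib.OddTransp84.Root
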