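import Cfsg.Agent.Lib.OddTransp84.Root.Data

/-!
`⟨cls d, x⟩` is linear over its centre.
-/

set_option autoImplicit false

namespace Cfsg.Agent.Lib.OddTransp84.Root

open Cfsg.Agent.Lib.OddTransp84 Cfsg.Agent.Lib.OddTransp84.Reduction
open Cfsg.Agent.Lib.OddTransp84.Core Cfsg.Agent.Lib

universe u

/-- Images of non-commuting members modulo the 2-core do not commute. -/
lemma commute_of_core {H : Type*} [Group H] [Finite H] {a b : H} (ha : a * a = 1) (hb : b * b = 1)
    (ho : Odd (orderOf (a * b)))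
    (hc : Commute (QuotientGroup.mk' (Cfsg.pCore 2 H) a) (QuotientGroup.mk' (Cfsg.pCore 2 H) b)) :
    Commute a b := by
  have hmem : a * b * (a * b) ∈ Cfsg.pCore 2 H := by
    rw [← QuotientGroup.ker_mk' (Cfsg.pCore 2 H), MonoidHom.mem_ker, map_mul, map_mul,
      hc.symm.mul_mul_mul_comm, ← map_mul, ha, ← map_mul, hb, map_one, one_mul]
  obtain ⟨k, hk⟩ := Cores.pCore_isPGroup (G := H) 2 ⟨_, hmem⟩
  have h2 : (a * b * (a * b)) ^ 2 ^ k = 1 := congrArg Subtype.val hk
  rw [← pow_two, ← pow_mul, ← pow_succ'] at h2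
  have h1 : orderOf (a * b) = 1 :=
    Nat.Coprime.eq_one_of_dvd (Nat.Coprime.pow_right _ (Nat.coprime_two_right.2 ho))
      (orderOf_dvd_of_pow_eq_one h2)
  rw [orderOf_eq_one_iff] at h1
  exact (eq_inv_of_mul_eq_one_left h1).trans (inv_eq_of_mul_eq_one_right hb) ▸ Commute.refl b

/-- No Suzuki data. -/
theorem no_szData (hI : BenderOne.PropSplit.{u}) :
    ∀ (n : ℕ) (G : Type u) [Group G] [Finite G], Nat.card G = n → ∀ (D : Set G), Std D →
      ∀ (d x : G), d ∈ D → x ∈ D → ¬ Commute d x → ∀ T t, ¬ SzData D d x T t := by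
  intro n
  induction n using Nat.strong_induction_on with
  | _ n ih =>
  intro G _ _ hn D h d x hd hx hdx T t hS
  classical
  subst hn
  have hD := h.base
  have hTH : TH D d x := by
    refine ⟨hd, hx, hdx, fun e he hed hex ht => ?_⟩
    set N1 := nb D e d with hN1
    have hNB : Base N1 := ncomp_base (hD.nbhd_base he)
    have hdN : d ∈ nbhd D e := hD.nbhd_mem hd hx hed.symm hex.symm fun e' => hdx e'.symm
    have hd1 : d ∈ N1 := self_mem_ncomp hdN
    have hx1 : x ∈ N1 := nb_step hD hd1 hx hex.symm hdx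
    set H := Subgroup.closure N1 with hH
    have hlt : Nat.card H < Nat.card G := by
      refine lt_of_le_of_ne (Subgroup.card_le_card_group H) fun heq => ?_
      have htop := Subgroup.eq_top_of_card_eq H heq
      obtain ⟨v, hv, hve⟩ := hD.nc e he
      have h1 : H ≤ Subgroup.centralizer {e} := (Subgroup.closure_le _).2 fun w hw =>
        Subgroup.mem_centralizer_singleton_iff.2 (nb_comm hw).eq
      exact hve (Subgroup.mem_centralizer_singleton_iff.1 (h1 (htop ▸ Subgroup.mem_top v)))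
    set π := QuotientGroup.mk' (Cfsg.pCore 2 H) with hπ
    set D1 := π '' {w : H | (w : G) ∈ N1} with hD1
    have hmem : ∀ {a : G} (ha : a ∈ N1), (⟨a, Subgroup.subset_closure ha⟩ : H) ∈ {w : H | (w : G) ∈ N1} :=
      fun ha => ha
    have hiff : ∀ {a b : H}, (a : G) ∈ N1 → (b : G) ∈ N1 →
        (Commute (π a) (π b) ↔ Commute (a : G) b) := by
      intro a b ha hb
      refine ⟨fun hc => ?_, fun hc => (show Commute a b from Subtype.ext hc).map π⟩
      by_contra hnc
      exact hnc (congrArg Subtype.val (commute_of_core (Subtype.ext (hNB.inv _ ha))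
        (Subtype.ext (hNB.inv _ hb))
        (by rw [← Subgroup.orderOf_coe]; exact hNB.odd_of_not ha hb hnc) hc).eq)
    have hne : ∀ {a : H}, (a : G) ∈ N1 → π a ≠ 1 := by
      intro a ha e'
      obtain ⟨v, hv, hva⟩ := hNB.nc _ ha
      apply hva
      exact (hiff (b := a) (a := ⟨v, Subgroup.subset_closure hv⟩) hv ha).1
        (by rw [e']; exact Commute.one_right _)
    have hB1 : Base D1 :=
      { inv := by rintro _ ⟨a, ha, rfl⟩; rw [← map_mul, show a * a = 1 from Subtype.ext (hNB.inv _ ha), map_one]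
        ne := by rintro _ ⟨a, ha, rfl⟩; exact hne ha
        conj := by
          rintro _ ⟨a, ha, rfl⟩ _ ⟨b, hb, rfl⟩
          exact ⟨a * b * a, hNB.conj _ ha _ hb, by rw [map_mul, map_mul]⟩
        pair := by
          rintro _ ⟨a, ha, rfl⟩ _ ⟨b, hb, rfl⟩
          rcases hNB.pair _ ha _ hb with hc | ho
          · exact Or.inl ((hiff ha hb).2 hc)
          · refine Or.inr ?_
            rw [← map_mul]
            refine Odd.of_dvd_nat ?_ (orderOf_map_dvd π _)
            rwa [← Subgroup.orderOf_coe]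
        trio := by
          rintro _ ⟨a, ha, rfl⟩
          obtain ⟨y, hy, hyne, hc, hm⟩ := hNB.trio _ ha
          refine ⟨π ⟨y, Subgroup.subset_closure hy⟩, ⟨_, hmem hy, rfl⟩, fun e' => ?_,
            (hiff hy ha).2 hc, ⟨a * ⟨y, Subgroup.subset_closure hy⟩, hm, map_mul _ _ _⟩⟩
          apply hne (a := a * ⟨y, Subgroup.subset_closure hy⟩) hm
          rw [map_mul, e', ← map_mul, show a * a = 1 from Subtype.ext (hNB.inv _ ha), map_one]
        nc := by
          rintro _ ⟨a, ha, rfl⟩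
          obtain ⟨v, hv, hva⟩ := hNB.nc _ ha
          exact ⟨π ⟨v, Subgroup.subset_closure hv⟩, ⟨_, hmem hv, rfl⟩, fun hc => hva ((hiff hv ha).1 hc)⟩ }
    have hgen1 : Subgroup.closure D1 = ⊤ := by
      rw [hD1, ← MonoidHom.map_closure]
      have : Subgroup.closure {w : H | (w : G) ∈ N1} = ⊤ := Subgroup.closure_closure_coe_preimage
      rw [this]
      exact Subgroup.map_top_of_surjective π (QuotientGroup.mk'_surjective _)
    have hStd : Std D1 :=
      { base := hB1
        gen := hgen1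
        thick := by
          obtain ⟨a, ha, b, hb, c, hc, h1, h2, h3⟩ := ht
          exact ⟨_, ⟨_, hmem ha, rfl⟩, _, ⟨_, hmem hb, rfl⟩, _, ⟨_, hmem hc, rfl⟩,
            (hiff hc ha).2 h1, (hiff hc hb).2 h2, fun e' => h3 ((hiff ha hb).1 e')⟩
        conjg := by
          rintro _ ⟨a, ha, rfl⟩ _ ⟨b, hb, rfl⟩
          obtain ⟨σ, hσ, e'⟩ := ncomp_conjg (hD.nbhd_base he) hdN _ ha _ hb
          refine ⟨π ⟨σ, hσ⟩, hgen1 ▸ Subgroup.mem_top _, ?_⟩
          rw [← map_inv, ← map_mul, ← map_mul]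
          exact congrArg π (Subtype.ext e')
        core := Cores.pCore_quotient_pCore 2 }
    set d1 : H := ⟨d, Subgroup.subset_closure hd1⟩ with hd1def
    set x1 : H := ⟨x, Subgroup.subset_closure hx1⟩ with hx1def
    have hdx1 : ¬ Commute (π d1) (π x1) := fun e' => hdx ((hiff hd1 hx1).1 e')
    have hd1D : π d1 ∈ D1 := ⟨_, hmem hd1, rfl⟩
    have hx1D : π x1 ∈ D1 := ⟨_, hmem hx1, rfl⟩
    rcases hStd.linear_or_data hI hd1D hx1D hdx1 with ⟨F, iF, iT, hch, -, -, ⟨eq⟩⟩ | ⟨T', t', hS'⟩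
    swap
    · have hcard : Nat.card (H ⧸ Cfsg.pCore 2 H) < Nat.card G := lt_of_le_of_lt
        (Nat.le_of_dvd Nat.card_pos (Subgroup.card_quotient_dvd_card _)) hlt
      exact ih _ hcard _ rfl D1 hStd _ _ hd1D hx1D hdx1 T' t' hS'
    -- the class lies in the neighbourhood
    have hcls : ∀ a ∈ cls D d, a ∈ N1 := fun a ha =>
      nb_step hD hx1 ha.1 ((ha.2 e he).1 hed).symm fun e' => hdx ((ha.2 x hx).2 e').symm
    have hcls1 : ∀ (a : G) (ha : a ∈ cls D d),
        π ⟨a, Subgroup.subset_closure (hcls a ha)⟩ ∈ cls D1 (π d1) := fun a ha => by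
      refine ⟨⟨_, hmem (hcls a ha), rfl⟩, ?_⟩
      rintro _ ⟨v, hv, rfl⟩
      rw [hiff hv hd1, hiff hv (hcls a ha)]
      exact ha.2 v (nb_subset hv)
    have hXH : clX (cls D d) x ≤ H :=
      Subgroup.closure_mono (Set.union_subset (fun a ha => hcls a ha) (Set.singleton_subset_iff.2 hx1))
    set X1 := clX (cls D1 (π d1)) (π x1) with hX1
    have hψ : ∀ w (hw : w ∈ clX (cls D d) x), π ⟨w, hXH hw⟩ ∈ X1 := by
      intro w hw
      induction hw using Subgroup.closure_induction with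
      | mem a ha =>
        rcases ha with ha | ha
        · exact mem_clX_left (hcls1 a ha)
        · obtain rfl : a = x := Set.mem_singleton_iff.1 ha
          exact mem_clX_right
      | one => exact (show π 1 = 1 from map_one π) ▸ one_mem X1
      | mul p q hp hq ihp ihq =>
        rw [show (⟨p * q, hXH (mul_mem hp hq)⟩ : H) = ⟨p, hXH hp⟩ * ⟨q, hXH hq⟩ from rfl, map_mul]
        exact mul_mem ihp ihq
      | inv p hp ihp =>
        rw [show (⟨p⁻¹, hXH (inv_mem hp)⟩ : H) = ⟨p, hXH hp⟩⁻¹ from rfl, map_inv]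
        exact inv_mem ihp
    obtain ⟨g, hg, a, ha, z, hzc, hgg⟩ := hS.four
    obtain ⟨i, hi⟩ := hS.two ⟨g, hg⟩
    have hgX := hS.le hg
    have hzX : z ∈ clX (cls D d) x := by
      rw [show z = a⁻¹ * (g * g) by rw [hgg, inv_mul_cancel_left]]
      exact mul_mem (inv_mem (mem_clX_left ha)) (mul_mem hgX hgX)
    set g1 : X1 := ⟨π ⟨g, hXH hgX⟩, hψ g hgX⟩ with hg1
    have hgi : g1 ^ 2 ^ i = 1 := by
      refine Subtype.ext ?_
      show π ⟨g, hXH hgX⟩ ^ 2 ^ i = 1
      rw [← map_pow, show (⟨g, hXH hgX⟩ : H) ^ 2 ^ i = 1 from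
        Subtype.ext (by simpa using congrArg Subtype.val hi), map_one]
    set ρ := QuotientGroup.mk' (Subgroup.center X1)
    have h1 : eq (ρ g1) ^ 2 ^ i = 1 := by rw [← map_pow, ← map_pow, hgi, map_one, map_one]
    have h2 := psl_sq_eq_one h1
    rw [← map_mul, ← map_mul] at h2
    have h3 : g1 * g1 ∈ Subgroup.center X1 :=
      (QuotientGroup.eq_one_iff _).1 (eq.injective (h2.trans (map_one eq).symm))
    have h4 := congrArg Subtype.val (Subgroup.mem_center_iff.1 h3 ⟨π x1, mem_clX_right⟩)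
    have haH : a ∈ H := hXH (mem_clX_left ha)
    have hgH : (⟨g, hXH hgX⟩ : H) * ⟨g, hXH hgX⟩ = ⟨a, haH⟩ * ⟨z, hXH hzX⟩ := Subtype.ext hgg
    have hc : Commute (π x1) (π ⟨a, haH⟩) := by
      have h5 : Commute (π x1) (π ⟨a, haH⟩ * π ⟨z, hXH hzX⟩) := by
        rw [← map_mul, ← hgH, map_mul]
        exact h4
      have h6 : Commute (π x1) (π ⟨z, hXH hzX⟩) :=
        ((show Commute (⟨z, hXH hzX⟩ : H) x1 from Subtype.ext (hzc x mem_clX_right)).map π).symm
      have := h5.mul_right h6.inv_right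
      rwa [mul_inv_cancel_right] at this
    exact hdx ((ha.2 x hx).2 ((hiff hx1 (hcls a ha)).1 hc)).symm
  obtain ⟨hC, hT⟩ := cfg_and_conn D hD
  obtain ⟨r, hr, hrd, hrx⟩ := exists_common hC hd (hT h.thick d hd x hx)
  exact hTH.no_data h hr hrd hrx hI hS

variable {G : Type u} [Group G] [Finite G] {D : Set G}

/-- Linear over the centre. -/
theorem Std.linear (h : Std D) (hI : BenderOne.PropSplit.{u}) {d x : G} (hd : d ∈ D) (hx : x ∈ D)
    (hdx : ¬ Commute d x) :
    ∃ (F : Type) (_ : Field F) (_ : Fintype F), CharP F 2 ∧ 4 ≤ Fintype.card F ∧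
      Fintype.card F = (cls D d).ncard + 1 ∧
      Nonempty (↥(clX (cls D d) x) ⧸ Subgroup.center ↥(clX (cls D d) x) ≃*
        Matrix.ProjectiveSpecialLinearGroup (Fin 2) F) := by
  rcases h.linear_or_data hI hd hx hdx with hl | ⟨T, t, hS⟩
  · exact hl
  · exact (no_szData hI _ G rfl D h d x hd hx hdx T t hS).elim

end Cfsg.Agent.Lib.OddTransp84.Root
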