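import Cfsg.Agent.Lib.OddTransp84.Root.Class

/-!
Non-commuting members `d, x` such that, in the neighbourhood of every common neighbour, the component
of `d` has transitive commuting: lines through `d` have a third point.
-/

set_option autoImplicit false

namespace Cfsg.Agent.Lib.OddTransp84.Root

open Cfsg.Agent.Lib.OddTransp84

universe u

variable {G : Type u} [Group G] {D : Set G} {d x : G}

/-- The component of `d` in the neighbourhood of `r`. -/
def nb (D : Set G) (r d : G) : Set G := ncomp (nbhd D r) d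

/-- The members of the component of `d` at `r` commuting with `d`. -/
def cq (D : Set G) (r d : G) : Set G := {c | c ∈ nb D r d ∧ Commute c d}

/-- The hypothesis: no thick component contains `d` and `x`. -/
structure TH (D : Set G) (d x : G) : Prop where
  dmem : d ∈ D
  xmem : x ∈ D
  nc : ¬ Commute d x
  thin : ∀ e ∈ D, Commute e d → Commute e x → ¬ Thick (nb D e d)

lemma nb_subset {r d : G} : nb D r d ⊆ D := fun _ h => h.1.1.1

lemma nb_comm {r d c : G} (h : c ∈ nb D r d) : Commute c r := h.1.1.2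

lemma nb_step {r d a b : G} (hD : Base D) (ha : a ∈ nb D r d) (hb : b ∈ D) (hbr : Commute b r)
    (h : ¬ Commute a b) : b ∈ nb D r d :=
  ncomp_step ha (hD.nbhd_mem hb (nb_subset ha) hbr (nb_comm ha) h) h

namespace TH

variable (hT : TH D d x) (hD : Base D) {r : G}
include hT hD

lemma self_mem (hrd : Commute r d) (hrx : Commute r x) : d ∈ nb D r d :=
  self_mem_ncomp (hD.nbhd_mem hT.dmem hT.xmem hrd.symm hrx.symm fun e => hT.nc e.symm)

lemma x_mem (hrd : Commute r d) (hrx : Commute r x) : x ∈ nb D r d :=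
  nb_step hD (hT.self_mem hD hrd hrx) hT.xmem hrx.symm hT.nc

lemma false_of_three {e v w : G} (he : e ∈ D) (hed : Commute e d) (hex : Commute e x) (hv : v ∈ D)
    (hvd : Commute v d) (hve : Commute v e) (hvx : ¬ Commute v x) (hw : w ∈ D) (hwd : Commute w d)
    (hwe : Commute w e) (hwv : ¬ Commute w v) : False := by
  have hd1 := hT.self_mem hD hed hex
  have hv1 : v ∈ nb D e d := nb_step hD (hT.x_mem hD hed hex) hv hve fun h => hvx h.symm
  have hw1 : w ∈ nb D e d := nb_step hD hv1 hw hwe fun h => hwv h.symm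
  exact hT.thin e he hed hex ⟨w, hw1, v, hv1, d, hd1, hwd.symm, hvd.symm, hwv⟩

end TH

variable [Finite G]

lemma not_eqv_of {r d x : G} (hx : x ∈ D) (hrx : Commute r x) (hdx : ¬ Commute d x) : ¬ Eqv D d r :=
  fun h => hdx ((h x hx).2 hrx.symm).symm

namespace TH

variable (hT : TH D d x) (h : Std D) {r r' : G}
include hT h

/-- A neighbour of `d` neither equivalent to it nor commuting with `x`. -/
lemma exists_off (hr : r ∈ D) (hrd : Commute r d) (hrx : Commute r x) :
    ∃ w ∈ D, Commute w d ∧ ¬ Eqv D d w ∧ ¬ Commute w x := by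
  by_contra hall
  push Not at hall
  have hd := hT.dmem
  have hx := hT.xmem
  have hD := h.base
  -- the other neighbours of `d` form an invariant set
  let R : G → Prop := fun c => c ∈ D ∧ Commute c d ∧ ¬ Eqv D d c
  have hfwd : ∀ g ∈ {c | c ∈ D ∧ Commute c d} ∪ {x}, ∀ c, R c → R (g * c * g⁻¹) := by
    rintro g (⟨hg, hgd⟩ | hg) c hc
    · have e : g * d * g⁻¹ = d := by rw [hgd.eq, mul_inv_cancel_right]
      refine ⟨hD.conj_mem (Subgroup.subset_closure hg) hc.1, ?_, fun he => hc.2.2 ?_⟩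
      · have := (commute_conj_iff g).mpr hc.2.1
        rwa [e] at this
      · have h1 := hD.eqv_conj (Subgroup.subset_closure hg) he
        rw [hD.conj_eq hg, hD.conj_eq hg] at h1
        rwa [show g * d * g = d by rw [← hD.conj_eq hg, e], hD.conj_eq hg, mul_assoc g c g,
          hD.self_cancel hg, hD.cancel_self hg] at h1
    · rw [Set.mem_singleton_iff.1 hg, ← (hall c hc.1 hc.2.1 hc.2.2).eq, mul_inv_cancel_right]
      exact hc
  set M := Subgroup.closure ({c | c ∈ D ∧ Commute c d} ∪ {x}) with hM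
  have hinv : ∀ σ ∈ M, ∀ c, R c ↔ R (σ * c * σ⁻¹) := by
    intro σ hσ
    induction hσ using Subgroup.closure_induction with
    | one => simp
    | mul p q _ _ hp hq =>
      intro c
      rw [hq c, hp]
      simp [mul_assoc]
    | inv p _ hp =>
      intro c
      rw [hp (p⁻¹ * c * p⁻¹⁻¹)]
      simp [mul_assoc]
    | mem g hg =>
      intro c
      refine ⟨hfwd g hg c, fun hc => ?_⟩
      have hgD : g ∈ D := hg.elim (fun e => e.1) fun e => (Set.mem_singleton_iff.1 e) ▸ hx
      have := hfwd g hg _ hc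
      rw [hD.conj_eq hgD, hD.conj_eq hgD, mul_assoc g c g, hD.self_cancel hgD,
        hD.cancel_self hgD] at this
      exact this
  obtain ⟨σ, hσ, e⟩ := h.conjg r hr d hd
  have hR : R r := ⟨hr, hrd, not_eqv_of hx hrx hT.nc⟩
  have := (hinv σ (gen hD h.conjg h.thick hd hx hT.nc hσ) r).1 hR
  rw [e] at this
  exact this.2.2 (Eqv.refl d)

/-- A second common neighbour. -/
lemma exists_second (hr : r ∈ D) (hrd : Commute r d) (hrx : Commute r x) :
    ∃ r' ∈ D, Commute r' d ∧ Commute r' x ∧ ¬ Commute r r' := by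
  have hD := h.base
  obtain ⟨w, hw, hwd, hwr⟩ :=
    hD.exists_comm_not (h.conjg d hT.dmem r hr) (not_eqv_of hT.xmem hrx hT.nc)
  by_cases hwx : Commute w x
  · exact ⟨w, hw, hwd, hwx, fun e => hwr e.symm⟩
  obtain ⟨e, he, hex, hed, hew⟩ := (cfg_and_conn D hD).1 x hT.xmem r hr d hT.dmem w hw hrx.symm
    hrd hwd.symm (fun e => hT.nc e.symm) (fun e => hwr e.symm) fun e => hwx e.symm
  exact ⟨e, he, hed, hex, fun hre => hT.false_of_three hD he hed hex hw hwd hew.symm hwx hr hrd hre
    fun e' => hwr e'.symm⟩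

/-- The component at `d` of a common neighbour is thin. -/
lemma thin_second (hr : r ∈ D) (hrd : Commute r d) (hrx : Commute r x) :
    ¬ Thick (nb D d r) := by
  intro ht
  have hD := h.base
  have hd := hT.dmem
  obtain ⟨r', hr', hr'd, -, hrr'⟩ := hT.exists_second h hr hrd hrx
  have hrN : r ∈ nbhd D d := hD.nbhd_mem hr hr' hrd hr'd fun e => hrr' e.symm
  set M := nb D d r with hM
  have hMB : Base M := ncomp_base (hD.nbhd_base hd)
  obtain ⟨-, hconn⟩ := cfg_and_conn M hMB
  have hMd : ∀ v ∈ M, Commute v d := fun v hv => nb_comm hv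
  have hstep : ∀ e ∈ M, ∀ v ∈ M, Commute e x → Commute v e → ¬ Eqv M e v → Commute v x := by
    intro e he v hv hex hve hne
    by_contra hvx
    obtain ⟨u, hu, hue, huv⟩ := hMB.exists_comm_not (ncomp_conjg (hD.nbhd_base hd) hrN e he v hv) hne
    exact hT.false_of_three hD (nb_subset he) (hMd e he) hex (nb_subset hv) (hMd v hv) hve hvx
      (nb_subset hu) (hMd u hu) hue huv
  have hall : ∀ v, Reach M r v → v ∈ M ∧ Commute v x := by
    intro v hv
    induction hv with
    | refl => exact ⟨self_mem_ncomp hrN, hrx⟩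
    | @tail e v _ h2 ih =>
      obtain ⟨he, hex⟩ := ih
      have hv := h2.2.1
      refine ⟨hv, ?_⟩
      by_cases hne : Eqv M e v
      · obtain ⟨n, hn, hne'⟩ := hMB.nc e he
        obtain ⟨e₂, he₂, h2e, h2n⟩ :=
          exists_common (cfg_and_conn M hMB).1 he (hconn ht e he n hn)
        have hne2 : ¬ Eqv M e e₂ := fun hE => hne' ((hE n hn).2 h2n.symm)
        have h2x := hstep e he e₂ he₂ hex h2e hne2
        refine hstep e₂ he₂ v hv h2x ((hne e₂ he₂).1 h2e).symm fun hE => hne2 ?_
        exact hne.trans hE.symm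
      · exact hstep e he v hv hex h2.2.2.symm hne
  obtain ⟨w, hw, hwd, hwne, hwx⟩ := hT.exists_off h hr hrd hrx
  have hwM : w ∉ M := fun hwM => hwx (hall w (hconn ht r (self_mem_ncomp hrN) w hwM)).2
  obtain ⟨u, hu, hud, huw⟩ := hD.exists_comm_not (h.conjg d hd w hw) hwne
  have huM : u ∉ M := fun huM => hwM (nb_step hD huM hw hwd huw)
  have hwN : w ∈ nbhd D d := hD.nbhd_mem hw hu hwd hud huw
  have huN : u ∈ nbhd D d := hD.nbhd_mem hu hw hud hwd fun e => huw e.symm
  exact hT.false_of_three hD hr hrd hrx hw hwd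
    (ncomp_comm (self_mem_ncomp hrN) hwN hwM).symm hwx hu hud
    (ncomp_comm (self_mem_ncomp hrN) huN huM).symm huw

/-- A member on the line of `d` and `r` commuting with another common neighbour is equivalent
to `d`. -/
lemma eqv_of_line (hr : r ∈ D) (hrd : Commute r d) (hrx : Commute r x) (hr' : r' ∈ D)
    (hr'd : Commute r' d) (hrr' : ¬ Commute r r') {c : G} (hc : c ∈ cq D r d)
    (hcr' : Commute c r') : Eqv D d c := by
  by_contra hne
  have hD := h.base
  obtain ⟨w, hw, hwd, hwc⟩ := hD.exists_comm_not (h.conjg d hT.dmem c (nb_subset hc.1)) hne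
  have hrN : r ∈ nbhd D d := hD.nbhd_mem hr hr' hrd hr'd fun e => hrr' e.symm
  have hr1 : r ∈ nb D d r := self_mem_ncomp hrN
  by_cases hwr : Commute w r
  · have hw1 : w ∈ nb D r d := nb_step hD hc.1 hw hwr fun e => hwc e.symm
    exact hT.thin r hr hrd hrx
      ⟨w, hw1, c, hc.1, d, hT.self_mem hD hrd hrx, hwd.symm, hc.2.symm, hwc⟩
  have hw1 : w ∈ nb D d r := nb_step hD hr1 hw hwd fun e => hwr e.symm
  have hc1 : c ∈ nb D d r := nb_step hD hw1 (nb_subset hc.1) hc.2 hwc
  have hr'1 : r' ∈ nb D d r := nb_step hD hr1 hr' hr'd hrr'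
  exact hT.thin_second h hr hrd hrx ⟨r, hr1, r', hr'1, c, hc1, nb_comm hc.1, hcr', hrr'⟩

/-- The line of `d` and `r` has a third point. -/
lemma exists_third_point (hr : r ∈ D) (hrd : Commute r d) (hrx : Commute r x) :
    ∃ c ∈ cq D r d, ¬ Eqv D d c := by
  have hD := h.base
  have hd := hT.dmem
  have hx := hT.xmem
  obtain ⟨w, hw, hwd, hwne, hwx⟩ := hT.exists_off h hr hrd hrx
  have hxN := hT.x_mem hD hrd hrx
  by_cases hwr : Commute w r
  · exact ⟨w, ⟨nb_step hD hxN hw hwr fun e => hwx e.symm, hwd⟩, hwne⟩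
  obtain ⟨hy, hy1, hy2, hyc, -⟩ := hD.mid_spec hw hx hwx
  set y := mid w x with hydef
  have hyi := hD.inv_self hy
  have hyr : ¬ Commute y r := fun e => hwr (by
    have := (commute_conj_iff y).mpr hrx.symm
    rwa [hyi, hy2, e.eq, mul_assoc, hD.inv y hy, mul_one] at this)
  have hyd : ¬ Commute y d := fun e => hT.nc (by
    have := (commute_conj_iff y).mpr hwd
    rw [hyi, hy1, e.eq, mul_assoc, hD.inv y hy, mul_one] at this
    exact this.symm)
  obtain ⟨d', hd', hde, hgood⟩ := hD.exists_good hy hd hr hrd.symm hyd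
  have hd'cls : d' ∈ cls D d := ⟨hd', hde⟩
  have hd'r : Commute d' r := ((hde r hr).1 hrd).symm
  have hd'ne : d' ≠ r := fun e => not_eqv_of hx hrx hT.nc (e ▸ hde)
  obtain ⟨f, hf, hfd', hfr, hyf, hyj, -, -⟩ := hD.exists_third hy hd' hr hd'r hd'ne hgood
  have hfd : Commute f d := (hde f hf).2 hfd'
  have hyd' : ¬ Commute y d' := fun e => hyd ((hde y hy).2 e)
  have hnd : ¬ Eqv D d f := fun he => by
    by_cases e : f = d'
    · rw [e, hD.inv d' hd', one_mul] at hyj
      exact hyr hyj
    have hm := h.mul_mem_cls hd ⟨hf, he⟩ hd'cls e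
    have hmr : Commute (f * d') r := hfr.mul_left hd'r
    have hne' : f * d' ≠ r := fun e' => not_eqv_of hx hrx hT.nc (e' ▸ hm.2)
    exact hyr (hD.comm_pair hy hm.1 hr hmr hne' hyj).2
  have hnr : ¬ Eqv D r f := fun he => by
    have he' : Commute y (d' * (f * r)) := by
      rwa [show d' * (f * r) = f * d' * r by rw [← mul_assoc, ← hfd'.eq]]
    by_cases e : f = r
    · rw [e, hD.inv r hr, mul_one] at he'
      exact hyd' he'
    have hm := h.mul_mem_cls hr ⟨hf, he⟩ (cls_self hr) e
    have hne' : d' ≠ f * r := fun e' => not_eqv_of hx hrx hT.nc (hde.trans (e' ▸ hm.2.symm))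
    exact hyd' (hD.comm_pair hy hd' hm.1 (hfd'.symm.mul_right hd'r) hne' he').1
  refine ⟨f, ⟨?_, hfd⟩, hnd⟩
  by_cases hfx : Commute f x
  swap
  · exact nb_step hD hxN hf hfr fun e => hfx e.symm
  exfalso
  have hfw : ¬ Commute f w := fun e => hyf (hyc f e hfx).symm
  obtain ⟨r', hr', hr'd, -, hrr'⟩ := hT.exists_second h hr hrd hrx
  have hr1 : r ∈ nb D d r := self_mem_ncomp (hD.nbhd_mem hr hr' hrd hr'd fun e => hrr' e.symm)
  have hw1 : w ∈ nb D d r := nb_step hD hr1 hw hwd fun e => hwr e.symm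
  have hf1 : f ∈ nb D d r := nb_step hD hw1 hf hfd fun e => hfw e.symm
  obtain ⟨z, hz, hzr, hzf⟩ := hD.exists_comm_not (h.conjg r hr f hf) hnr
  by_cases hzd : Commute z d
  · exact hT.thin_second h hr hrd hrx
      ⟨z, nb_step hD hf1 hz hzd fun e => hzf e.symm, f, hf1, r, hr1, hzr.symm, hfr.symm, hzf⟩
  have hd1 := hT.self_mem hD hrd hrx
  have hz1 : z ∈ nb D r d := nb_step hD hd1 hz hzr fun e => hzd e.symm
  have hf2 : f ∈ nb D r d := nb_step hD hz1 hf hfr hzf
  exact hT.thin r hr hrd hrx ⟨d, hd1, x, hxN, f, hf2, hfd, hfx, hT.nc⟩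

end TH

end Cfsg.Agent.Lib.OddTransp84.Root
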