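import Cfsg.Agent.Lib.OddTransp84.Root.Auto
import Cfsg.Agent.Lib.OddTransp84.Root.Thin
import Cfsg.Agent.Lib.OddTransp84.Quotient

/-!
The action of the 2-group `T` on the residue of a common neighbour: up to elements centralising
`⟨cls d, x⟩` it is trivial modulo a 2-group.
-/

set_option autoImplicit false

namespace Cfsg.Agent.Lib.OddTransp84.Root

open Cfsg.Agent.Lib.OddTransp84 Cfsg.Agent.Lib.OddTransp84.Reduction
open Cfsg.Agent.Lib.OddTransp84.Core Cfsg.Agent.Lib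

universe u

variable {G : Type u} [Group G] [Finite G] {D : Set G}

lemma Std.mem_closure (h : Std D) (g : G) : g ∈ Subgroup.closure D := h.gen ▸ Subgroup.mem_top g

lemma Std.conjD (h : Std D) (g : G) {a : G} (ha : a ∈ D) : g * a * g⁻¹ ∈ D :=
  h.base.conj_mem (h.mem_closure g) ha

lemma Std.eqvc (h : Std D) (g : G) {a b : G} (hab : Eqv D a b) :
    Eqv D (g * a * g⁻¹) (g * b * g⁻¹) := h.base.eqv_conj (h.mem_closure g) hab

lemma Std.nb_conj (h : Std D) {r d g v : G} (hgr : Commute g r)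
    (hgd : g * d * g⁻¹ ∈ nb D r d) (hv : v ∈ nb D r d) : g * v * g⁻¹ ∈ nb D r d := by
  have key : ∀ w, Relation.ReflTransGen (Step (nbhd D r)) d w → g * w * g⁻¹ ∈ nb D r d := by
    intro w hw
    induction hw with
    | refl => exact hgd
    | @tail a b _ h2 ih =>
      refine nb_step h.base ih (h.conjD g h2.2.1.1.1) ?_ fun e => h2.2.2 ((commute_conj_iff g).1 e)
      have := (commute_conj_iff g).2 h2.2.1.1.2
      rwa [hgr.eq, mul_inv_cancel_right] at this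
  exact key v hv.2

namespace TH

variable {d x r : G} (hT : TH D d x) (h : Std D)
include hT h

lemma cls_sub_cq (hr : r ∈ D) (hrd : Commute r d) (hrx : Commute r x) {a : G}
    (ha : a ∈ cls D d) : a ∈ cq D r d :=
  ⟨nb_step h.base (hT.x_mem h.base hrd hrx) ha.1 ((ha.2 r hr).1 hrd).symm
      fun e => hT.nc ((ha.2 x hT.xmem).2 e).symm,
    ((ha.2 d hT.dmem).1 (Commute.refl d)).symm⟩

lemma cq_conj (hrd : Commute r d) (hrx : Commute r x) {g c : G} (hgr : Commute g r)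
    (hgd : Eqv D (g * d * g⁻¹) d) (hc : c ∈ cq D r d) : g * c * g⁻¹ ∈ cq D r d := by
  have hD := h.base
  have hgdD := h.conjD g hT.dmem
  have hgd1 : g * d * g⁻¹ ∈ nb D r d := by
    refine nb_step hD (hT.x_mem hD hrd hrx) hgdD ?_ fun e => hT.nc ((hgd x hT.xmem).1 e).symm
    have := (commute_conj_iff g).2 hrd.symm
    rwa [hgr.eq, mul_inv_cancel_right] at this
  exact ⟨h.nb_conj hgr hgd1 hc.1,
    (hgd _ (h.conjD g (nb_subset hc.1))).1 ((commute_conj_iff g).2 hc.2)⟩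

/-- The residue. -/
theorem residue (hI : BenderOne.PropSplit.{u}) {T : Subgroup G} {t : G} (hS : SzData D d x T t)
    (hr : r ∈ D) (hrd : Commute r d) (hrx : Commute r x) :
    ∃ T0 : Subgroup G,
      (∀ w ∈ T, ∃ g ∈ T, ∃ z, Cent (clX (cls D d) x) z ∧ w = g * z ∧
        ∀ c ∈ cq D r d, c * (g * c * g⁻¹) ∈ T0) ∧
      ∀ a ∈ cls D d, ∀ c ∈ cq D r d, c * a ∈ T0 → c ∈ cls D d := by
  classical
  have hD := h.base
  have hd := hT.dmem
  have hx := hT.xmem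
  obtain ⟨r', hr', hr'd, hr'x, hrr'⟩ := hT.exists_second h hr hrd hrx
  set M := nb D d r with hM
  have hMB : Base M := ncomp_base (hD.nbhd_base hd)
  have hr1 : r ∈ M := self_mem_ncomp (hD.nbhd_mem hr hr' hrd hr'd fun e => hrr' e.symm)
  have hr'1 : r' ∈ M := nb_step hD hr1 hr' hr'd hrr'
  have htr : ∀ {a b c : G}, a ∈ M → b ∈ M → c ∈ M → Commute a b → Commute b c → Commute a c :=
    fun ha hb hc => trans_of_thin (hT.thin_second h hr hrd hrx) ha hb hc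
  set E : Set G := {c | c ∈ cq D r d ∧ c ∉ cls D d} ∪ cls D r with hE
  have hEM : E ⊆ M := by
    rintro c (⟨hc, hcn⟩ | hc)
    · exact nb_step hD hr'1 (nb_subset hc.1) hc.2 fun e => hcn
        ⟨nb_subset hc.1, hT.eqv_of_line h hr hrd hrx hr' hr'd hrr' hc e.symm⟩
    · exact nb_step hD hr'1 hc.1 ((hc.2 d hd).1 hrd.symm).symm
        fun e => hrr' ((hc.2 r' hr').2 e).symm
  have hEr : ∀ c ∈ E, Commute c r := by
    rintro c (⟨hc, -⟩ | hc)
    · exact nb_comm hc.1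
    · exact ((hc.2 r hr).1 (Commute.refl r)).symm
  have hrE : r ∈ E := Or.inr (cls_self hr)
  obtain ⟨hGen, hclsE⟩ := gen_sub hMB hEM hrE hr'1
    (fun e he v hv => ⟨fun e1 => htr (orb_mem hMB hEM hr'1 hv) hr1 (hEM he) e1 (hEr e he).symm,
      fun e1 => htr (orb_mem hMB hEM hr'1 hv) (hEM he) hr1 e1 (hEr e he)⟩) hrr'
  set Y := clX E r' with hY
  set π : Y →* Y ⧸ Cfsg.pCore 2 Y := QuotientGroup.mk' (Cfsg.pCore 2 Y) with hπ
  have hker : ∀ {y : Y}, π y = 1 ↔ y ∈ Cfsg.pCore 2 Y := fun {y} => by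
    rw [← MonoidHom.mem_ker, QuotientGroup.ker_mk']
  -- the configuration of the residue
  have hQ := hGen.quotient
  obtain ⟨r₁, hr₁, hr₁ne, -, -, hr₁e⟩ := hD.exists_partner hr
  have hr₁c : r₁ ∈ cls D r := ⟨hr₁, hr₁e⟩
  have hr₁E : r₁ ∈ E := Or.inr hr₁c
  have hm : r * r₁ ∈ cls D r := h.mul_mem_cls hr (cls_self hr) hr₁c hr₁ne.symm
  have hne₁ : π ⟨r₁, mem_clX_left hr₁E⟩ ≠ π ⟨r, mem_clX_left hrE⟩ := by
    intro e
    have hmo := (hclsE (r * r₁) (Or.inr hm)).1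
    apply hQ.ne _ ⟨_, hmo, rfl⟩
    rw [show (⟨r * r₁, mem_clX_left (Or.inr hm)⟩ : Y)
      = ⟨r, mem_clX_left hrE⟩ * ⟨r₁, mem_clX_left hr₁E⟩ from rfl]
    show π _ = 1
    rw [map_mul, e, ← map_mul, hGen.sq _ hGen.dmem, map_one]
  obtain ⟨hC, hgenC, P, R, hne, hline⟩ :=
    hQ.conf (Cores.pCore_quotient_pCore 2) (hGen.map_mem_cls (hclsE r₁ hr₁E)) hne₁
  have hne0 : hC.pt hQ.dmem ≠ hC.pt hQ.xmem := fun e =>
    hQ.nc (Conf.commute_mem (Conf.mem_pt hQ.dmem) (e ▸ Conf.mem_pt hQ.xmem))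
  -- the elements fixing the class of `d` act on it
  have hfix : ∀ g ∈ clX (cls D d) x, ∀ e ∈ D, Commute e x → Commute e d → g * e * g⁻¹ = e :=
    fun g hg e he hex hed => by
      rw [(h.comm_clX hd he hex hed hg).symm.eq, mul_inv_cancel_right]
  have hgen : ∀ g ∈ clX (cls D d) x, Eqv D (g * d * g⁻¹) d → ∀ y ∈ Y, g * y * g⁻¹ ∈ Y := by
    intro g hg hgd y hy
    have h1 : Y ≤ Y.comap (MulAut.conj g).toMonoidHom := (Subgroup.closure_le _).2 (by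
      rintro c ((⟨hc, hcn⟩ | hc) | rfl)
      · refine mem_clX_left (Or.inl ⟨hT.cq_conj h hrd hrx (h.comm_clX hd hr hrx hrd hg).symm hgd hc,
          fun hc' => hcn ⟨nb_subset hc.1, ?_⟩⟩)
        have h2 := h.eqvc g⁻¹ (hgd.trans hc'.2)
        simpa [mul_assoc] using h2
      · show g * c * g⁻¹ ∈ Y
        rw [hfix g hg c hc.1 ((hc.2 x hx).1 hrx.symm).symm ((hc.2 d hd).1 hrd.symm).symm]
        exact mem_clX_left (Or.inr hc)
      · show g * c * g⁻¹ ∈ Y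
        rw [hfix g hg c hr' hr'x hr'd]
        exact mem_clX_right)
    exact h1 hy
  have hTd : ∀ g ∈ T, g * d * g⁻¹ = d := fun g hg => by
    rw [(hS.centr g hg d (cls_self hd)).eq, mul_inv_cancel_right]
  set N := Subgroup.normalizer (Y : Set G) with hN
  have hTN : T ≤ N := fun g hg =>
    Subgroup.mem_normalizer_fintype (hgen g (hS.le hg) (by rw [hTd g hg]; exact Eqv.refl d))
  let ψ : MulAut Y →* MulAut (Y ⧸ Cfsg.pCore 2 Y) :=
    { toFun := fun α => QuotientGroup.congr _ _ α (Cores.map_pCore_equiv α)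
      map_one' := by
        ext y
        induction y using QuotientGroup.induction_on with | _ y => ?_
        rfl
      map_mul' := fun α β => by
        ext y
        induction y using QuotientGroup.induction_on with | _ y => ?_
        rfl }
  set Φ : N →* MulAut (Y ⧸ Cfsg.pCore 2 Y) := ψ.comp (Subgroup.normalizerMonoidHom Y) with hΦ
  have hΦy : ∀ (g : N) (y : Y) (y' : Y), (y' : G) = g * y * (g : G)⁻¹ → Φ g (π y) = π y' :=
    fun g y y' e => congrArg π (Subtype.ext e.symm)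
  set A := (T.subgroupOf N).map Φ with hA
  have hA2 : IsPGroup 2 A :=
    (hS.two.of_equiv (Subgroup.subgroupOfEquivOfLe hTN).symm).map Φ
  have hAfix : ∀ (e : G) (heY : e ∈ Y), e ∈ D → Commute e x → Commute e d → ∀ α ∈ A,
      α (π ⟨e, heY⟩) = π ⟨e, heY⟩ := by
    rintro e heY he hex hed _ ⟨g, hg, rfl⟩
    exact hΦy g _ _ (hfix g (hS.le hg) e he hex hed).symm
  have hcyc : IsCyclic A := by
    refine Conf.isCyclic_aut hI hgenC hne0 (Conf.line_eq_top hI hgenC hne hline hne0) hA2 ?_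
      (Conf.mem_pt hQ.dmem) (hQ.ne _ hQ.dmem) (Conf.mem_pt hQ.xmem) (hQ.ne _ hQ.xmem)
      (hAfix r _ hr hrx hrd) (hAfix r' _ hr' hr'x hr'd)
    rintro _ ⟨g, hg, rfl⟩ _ ⟨a, ⟨σ, hσ⟩, rfl⟩
    have hgσ : (g : G) * σ * (g : G)⁻¹ ∈ Y := (Subgroup.mem_normalizer_iff.1 g.2 _).1 σ.2
    refine ⟨⟨(g : G) * a * (g : G)⁻¹, (Subgroup.mem_normalizer_iff.1 g.2 _).1 a.2⟩,
      ⟨⟨_, hgσ⟩, ?_⟩, (hΦy g a _ rfl).symm⟩
    show _ = (g : G) * a * (g : G)⁻¹
    have e1 : (g : G)⁻¹ * r' * (g : G) = r' := by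
      have e0 := hfix (g : G)⁻¹ (inv_mem (hS.le hg)) r' hr' hr'x hr'd
      rwa [inv_inv] at e0
    rw [← hσ]
    calc (g : G) * σ * (g : G)⁻¹ * r' * ((g : G) * σ * (g : G)⁻¹)⁻¹
        = (g : G) * σ * ((g : G)⁻¹ * r' * g) * (σ : G)⁻¹ * (g : G)⁻¹ := by group
      _ = _ := by rw [e1]; group
  obtain ⟨k, hk, hkodd, hkd, htor⟩ := hS.torus
  have hkN : k ∈ N := Subgroup.mem_normalizer_fintype (hgen k hk hkd)
  refine ⟨(Cfsg.pCore 2 Y).map Y.subtype, fun w hw => ?_, ?_⟩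
  · obtain ⟨y, hy, z, hz, rfl⟩ := htor w hw
    have hyk : k * y * k⁻¹ ∈ T := hS.norm k hk hkd y hy
    have hg : y⁻¹ * (k * y * k⁻¹) ∈ T := T.mul_mem (T.inv_mem hy) hyk
    have hΦg : Φ ⟨_, hTN hg⟩ = 1 := by
      have h1 : Odd (orderOf (Φ ⟨k, hkN⟩)) := by
        refine Odd.of_dvd_nat ?_ (orderOf_map_dvd Φ _)
        rwa [← Subgroup.orderOf_coe]
      have h2 := commute_of_odd_norm hA2 h1 (fun α hα => by
        obtain ⟨g, hg', rfl⟩ := hα
        exact ⟨⟨k, hkN⟩ * g * ⟨k, hkN⟩⁻¹, hS.norm k hk hkd _ hg', by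
          rw [map_mul, map_mul, map_inv]⟩) (Subgroup.mem_map_of_mem Φ
            (show (⟨y, hTN hy⟩ : N) ∈ T.subgroupOf N from hy))
      rw [show (⟨_, hTN hg⟩ : N) = ⟨y, hTN hy⟩⁻¹ * (⟨k, hkN⟩ * ⟨y, hTN hy⟩ * ⟨k, hkN⟩⁻¹) from rfl,
        map_mul, map_mul, map_mul, map_inv, map_inv, h2, inv_mul_cancel]
    refine ⟨_, hg, z, hz, rfl, fun c hc => ?_⟩
    set g := y⁻¹ * (k * y * k⁻¹) with hgdef
    by_cases hcd : c ∈ cls D d
    · rw [(hS.centr g hg c hcd).eq, mul_inv_cancel_right, hD.inv c hcd.1]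
      exact one_mem _
    have hcY : c ∈ Y := mem_clX_left (Or.inl ⟨hc, hcd⟩)
    have hgcY : g * c * g⁻¹ ∈ Y := hgen g (hS.le hg) (by rw [hTd g hg]; exact Eqv.refl d) c hcY
    refine ⟨⟨c, hcY⟩ * ⟨_, hgcY⟩, hker.1 ?_, rfl⟩
    rw [map_mul, ← hΦy ⟨g, hTN hg⟩ ⟨c, hcY⟩ ⟨_, hgcY⟩ rfl, hΦg, MulAut.one_apply, ← map_mul,
      show (⟨c, hcY⟩ : Y) * ⟨c, hcY⟩ = 1 from Subtype.ext (hD.inv c (nb_subset hc.1)), map_one]
  · intro a ha c hc hca
    by_contra hcd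
    have hcE : c ∈ E := Or.inl ⟨hc, hcd⟩
    have hcY : c ∈ Y := mem_clX_left hcE
    obtain ⟨q, hq, hqe⟩ := hca
    have hqe' : (q : G) = c * a := hqe
    have haY : a ∈ Y := by
      have := Y.mul_mem (Y.inv_mem hcY) q.2
      rwa [hqe', inv_mul_cancel_left] at this
    have hπa : π ⟨c, hcY⟩ = π ⟨a, haY⟩ := by
      have h1 : π (⟨c, hcY⟩ * ⟨a, haY⟩) = 1 :=
        hker.2 ((Subtype.ext hqe' : q = ⟨c, hcY⟩ * ⟨a, haY⟩) ▸ hq)
      rw [map_mul] at h1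
      rw [eq_inv_of_mul_eq_one_left h1, ← map_inv,
        show (⟨a, haY⟩ : Y)⁻¹ = ⟨a, haY⟩ from Subtype.ext (hD.inv_self ha.1)]
    have har' : Commute (⟨a, haY⟩ : Y) ⟨r', mem_clX_right⟩ :=
      Subtype.ext ((ha.2 r' hr').1 hr'd).eq.symm
    have hcr' : Commute (⟨c, hcY⟩ : Y) ⟨r', mem_clX_right⟩ :=
      hGen.commute_of_map (hclsE c hcE).1 hGen.xmem (show Commute (π ⟨c, hcY⟩) (π _) from hπa ▸ har'.map π)
    exact hcd ⟨nb_subset hc.1,
      hT.eqv_of_line h hr hrd hrx hr' hr'd hrr' hc (congrArg Subtype.val hcr'.eq)⟩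

end TH

end Cfsg.Agent.Lib.OddTransp84.Root
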