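import Cfsg.Agent.Lib.OddTransp84.Root.Class

/-!
The group generated by a class and one further member is linear over its centre, or carries the data of
a Suzuki group.
-/

set_option autoImplicit false

namespace Cfsg.Agent.Lib.OddTransp84

universe u

namespace Core.Conf

variable {G : Type u} [Group G] [Finite G] {D : Set G} {h : Conf D}

/-- A configuration generated by two points, modulo the centre. -/
lemma exists_quotCenter (hgen : Subgroup.closure D = ⊤) {P R : h.Pt} (hne : P ≠ R)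
    (hline : line P R = ⊤) :
    (∀ d ∈ D, d ∉ Subgroup.center G) ∧
    ∃ hQ : Conf (QuotientGroup.mk' (Subgroup.center G) '' D),
      TwoGen hQ ∧ qpt hQ P ≠ qpt hQ R ∧ line (qpt hQ P) (qpt hQ R) = ⊤ := by
  have htwo : ∀ X : h.Pt, ∃ Y : h.Pt, X ≠ Y := fun X => by
    by_cases e : X = P
    · exact ⟨R, e ▸ hne⟩
    · exact ⟨P, e⟩
  have hDZ : ∀ d ∈ D, d ∉ Subgroup.center G := fun d hd hz => by
    have key : ∀ X : h.Pt, d ∈ X := fun X => by
      obtain ⟨a, ha, ha1⟩ := exists_ne_one X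
      exact (mem_iff_commute ha ha1 hd).2 (Subgroup.mem_center_iff.1 hz a).symm
    exact hne (eq_of_mem (key P) (key R) (h.ne d hd))
  set π : G →* G ⧸ Subgroup.center G := QuotientGroup.mk' _ with hπdef
  have hker : π.ker = Subgroup.center G := QuotientGroup.ker_mk' _
  have hsurj : Function.Surjective π := QuotientGroup.mk'_surjective _
  set hQ := h.quot hsurj hker.le hDZ with hQdef
  have hgenQ : line (qpt hQ P) (qpt hQ R) = ⊤ := by
    rw [eq_top_iff, ← Subgroup.map_top_of_surjective π hsurj, ← hline, Subgroup.map_le_iff_le_comap]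
    exact sup_le (fun a ha => left_le_line (mem_qpt ha)) (fun a ha => right_le_line (mem_qpt ha))
  have hneQ : qpt hQ P ≠ qpt hQ R := fun e => hne (qpt_injective hker.le e)
  refine ⟨hDZ, hQ, ⟨⟨?_, center_quotient_eq_bot (h := h) hgen htwo, fun X => ?_⟩, _, _, hneQ, hgenQ⟩,
    hneQ, hgenQ⟩
  · rw [← MonoidHom.map_closure, hgen]
    exact Subgroup.map_top_of_surjective _ hsurj
  · by_cases e : X = qpt hQ P
    · exact ⟨_, e ▸ hneQ⟩
    · exact ⟨_, e⟩

end Core.Conf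

namespace Root

open Cfsg.Agent.Lib.OddTransp84.Reduction Cfsg.Agent.Lib.OddTransp84.Core
open MulAction Cfsg.Agent.Lib Cfsg.Agent.Lib.FTDeps

variable {G : Type u} [Group G]

/-- `z` centralises `X`. -/
def Cent (X : Subgroup G) (z : G) : Prop := ∀ e ∈ X, Commute z e

/-- The data of a Suzuki group on `X = ⟨cls d, x⟩`: `T` maps onto the unipotent radical of the point of
`d`, `t` exchanges the points of `d` and `x`. -/
structure SzData (D : Set G) (d x : G) (T : Subgroup G) (t : G) : Prop where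
  le : T ≤ clX (cls D d) x
  two : IsPGroup 2 T
  cls_le : ∀ a ∈ cls D d, a ∈ T
  centr : ∀ g ∈ T, ∀ a ∈ cls D d, Commute g a
  norm : ∀ s ∈ clX (cls D d) x, Eqv D (s * d * s⁻¹) d → ∀ g ∈ T, s * g * s⁻¹ ∈ T
  tmem : t ∈ clX (cls D d) x
  tsq : t * t = 1
  tswap : t * d * t = x
  trans : ∀ σ ∈ clX (cls D d) x, ¬ Commute (σ * x * σ⁻¹) d →
    ∃ g ∈ T, Eqv D (g * x * g⁻¹) (σ * x * σ⁻¹)
  four : ∃ g ∈ T, ∃ a ∈ cls D d, ∃ z, Cent (clX (cls D d) x) z ∧ g * g = a * z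
  sq : ∀ g ∈ T, (∃ a ∈ cls D d, ∃ z, Cent (clX (cls D d) x) z ∧ g * g = a * z) ∨
    ∃ a, (a = 1 ∨ a ∈ cls D d) ∧ ∃ z, Cent (clX (cls D d) x) z ∧ g = a * z
  torus : ∃ k ∈ clX (cls D d) x, Odd (orderOf k) ∧ Eqv D (k * d * k⁻¹) d ∧
    ∀ w ∈ T, ∃ y ∈ T, ∃ z, Cent (clX (cls D d) x) z ∧ w = y⁻¹ * (k * y * k⁻¹) * z

variable [Finite G] {D : Set G}

/-- Linear over the centre, or Suzuki data. -/
theorem Std.linear_or_data (h : Std D) (hI : BenderOne.PropSplit.{u}) {d x : G} (hd : d ∈ D)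
    (hx : x ∈ D) (hdx : ¬ Commute d x) :
    (∃ (F : Type) (_ : Field F) (_ : Fintype F), CharP F 2 ∧ 4 ≤ Fintype.card F ∧
        Fintype.card F = (cls D d).ncard + 1 ∧
        Nonempty (↥(clX (cls D d) x) ⧸ Subgroup.center ↥(clX (cls D d) x) ≃*
          Matrix.ProjectiveSpecialLinearGroup (Fin 2) F)) ∨
      ∃ T t, SzData D d x T t := by
  classical
  obtain ⟨hC, hgen, P, R, hne, hline, hP, hxR⟩ := h.conf hd hx hdx
  obtain ⟨hGen, hclsX⟩ := h.gen_cls hd hx hdx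
  obtain ⟨hDZ, hQ, hT, hneQ, hgenQ⟩ := Conf.exists_quotCenter hgen hne hline
  have hsub : ∀ a ∈ orb (clX (cls D d) x) x, (a : G) ∈ D := fun a ha =>
    orb_mem h.base (fun _ hv => hv.1) hx ha
  set dX : clX (cls D d) x := ⟨d, mem_clX_left (cls_self hd)⟩ with hdX
  set xX : clX (cls D d) x := ⟨x, mem_clX_right⟩ with hxX
  have hdP : dX ∈ P := (hP _).2 (Or.inr (cls_self hd))
  have heq : ∀ a ∈ orb (clX (cls D d) x) x, ∀ b ∈ orb (clX (cls D d) x) x, Commute a b →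
      Eqv D (a : G) b := by
    intro a ha b hb hab
    obtain ⟨σ, hσ⟩ := hGen.conjg a ha _ hGen.dmem
    have hc : Commute (σ * b * σ⁻¹) (σ * a * σ⁻¹) := (Commute.conj_iff σ).2 hab.symm
    rw [hσ] at hc
    have h1 := h.eqv_of_orb hd hx hdx (hGen.conj σ b hb) (congrArg Subtype.val hc.eq)
    have h2 : Eqv D (((σ * a * σ⁻¹ : clX (cls D d) x)) : G) ((σ * b * σ⁻¹ : clX (cls D d) x) : G) := by
      rw [hσ]; exact h1.2
    have h3 := h.base.eqv_conj (σ := ((σ : G))⁻¹) (h.gen ▸ Subgroup.mem_top _) h2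
    simpa [mul_assoc] using h3
  set π := QuotientGroup.mk' (Subgroup.center ↥(clX (cls D d) x)) with hπ
  have hker : π.ker = Subgroup.center _ := QuotientGroup.ker_mk' _
  have hsurj : Function.Surjective π := QuotientGroup.mk'_surjective _
  have hinj := Conf.qpt_injective (h := hC) (hQ := hQ) hker.le
  obtain ⟨f, hf, -, hfe⟩ := Conf.swp_surj hne hdP (hC.ne _ hGen.dmem) hxR (hC.ne _ hGen.xmem)
  have hfQ : π f ∈ Conf.swp (Conf.qpt hQ P) (Conf.qpt hQ R) :=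
    ⟨⟨f, hf.1, rfl⟩, by rw [Conf.qpt_smul, hf.2]⟩
  obtain ⟨Q, hH, hQ2, hinv, hq, hcase⟩ :=
    Conf.twoGen_types hI hT (Conf.twoGen_onePoint hI hT) hneQ hgenQ hfQ
  have hcardP : Nat.card (Conf.qpt hQ P).1 = Nat.card P.1 := by
    refine (Nat.card_eq_of_bijective
      (fun y : P.1 => (⟨π y, Conf.mem_qpt y.2⟩ : (Conf.qpt hQ P).1)) ⟨?_, ?_⟩).symm
    · rintro ⟨y, hy⟩ ⟨z, hz⟩ e
      have e' : π y = π z := congrArg Subtype.val e
      have hm : y * z ∈ π.ker := by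
        rw [MonoidHom.mem_ker, map_mul, ← e', ← map_mul, Conf.sq_mem hy, map_one]
      by_contra hne'
      have hyz : y * z ≠ 1 := fun e'' =>
        hne' (Subtype.ext ((eq_inv_of_mul_eq_one_left e'').trans (Conf.inv_mem_eq hz)))
      exact hDZ _ (Conf.mem_D (Conf.mul_mem_pt hy hz) hyz) (hker ▸ hm)
    · rintro ⟨y, hy⟩
      obtain ⟨z, hz, e⟩ := Conf.exists_of_mem_qpt hker.le hy
      exact ⟨⟨z, hz⟩, Subtype.ext e⟩
  have hPcls : Nat.card P.1 = (cls D d).ncard + 1 := by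
    rw [← Set.ncard_image_of_injective (cls D d) (f := (id : G → G)) Function.injective_id,
      Set.image_id]
    have e : Subtype.val '' (P.1 : Set (clX (cls D d) x)) = insert 1 (cls D d) := by
      ext w
      constructor
      · rintro ⟨y, hy, rfl⟩
        exact (hP y).1 hy
      · intro hw
        have hwX : w ∈ clX (cls D d) x :=
          hw.elim (fun e => e ▸ one_mem _) fun e => mem_clX_left e
        exact ⟨⟨w, hwX⟩, (hP _).2 hw, rfl⟩
    have h1 := congrArg Set.ncard e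
    rw [Set.ncard_image_of_injective _ Subtype.val_injective,
      Set.ncard_insert_of_notMem (fun h1 => h.base.ne _ h1.1 rfl) (Set.toFinite _)] at h1
    rw [← h1, ← Nat.card_coe_set_eq]
    rfl
  rcases hcase with ⟨-, -, F, iF, iT, hF, ⟨n, hn, hqn⟩, ⟨e⟩⟩ | hsz
  · left
    have : Fact (Nat.Prime 2) := ⟨Nat.prime_two⟩
    refine ⟨F, iF, iT, charP_of_card_eq_prime_pow (hF.trans hqn), ?_,
      by rw [hF, hq, hcardP, hPcls], ⟨Subgroup.topEquiv.symm.trans e⟩⟩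
    rw [hF, hqn]
    exact le_trans (by norm_num : 4 ≤ 2 ^ 2) (Nat.pow_le_pow_right (by norm_num) hn)
  right
  obtain ⟨hQcard, hkS, -⟩ := hsz
  rw [top_inf_eq] at hkS
  have : Fact (Nat.Prime 2) := ⟨Nat.prime_two⟩
  set a₀ := ((1 : ↥(clX (cls D d) x) ⧸ Subgroup.center ↥(clX (cls D d) x)) :
    (↥(clX (cls D d) x) ⧸ Subgroup.center ↥(clX (cls D d) x)) ⧸
      stabilizer (↥(clX (cls D d) x) ⧸ Subgroup.center ↥(clX (cls D d) x)) (Conf.qpt hQ P)) with ha₀
  have hmem : ∀ w : ↥(clX (cls D d) x) ⧸ Subgroup.center ↥(clX (cls D d) x),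
      w • a₀ = a₀ ↔ w • Conf.qpt hQ P = Conf.qpt hQ P := fun w => by
    rw [ha₀, MulAction.Quotient.smul_mk, smul_eq_mul, mul_one, QuotientGroup.eq, mul_one,
      inv_mem_iff]
    rfl
  have hmemP : ∀ y : clX (cls D d) x, π y • a₀ = a₀ ↔ y • P = P := fun y => by
    rw [hmem, Conf.qpt_smul, hinj.eq_iff]
  -- the 2-part of the preimage of `Q`
  set Qh := Q.comap π with hQh
  set φ : Qh →* Q := (π.comp Qh.subtype).codRestrict Q fun y => y.2 with hφ
  have hφs : Function.Surjective φ := by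
    rintro ⟨q, hq'⟩
    obtain ⟨y, rfl⟩ := hsurj q
    exact ⟨⟨y, hq'⟩, rfl⟩
  obtain ⟨S⟩ : Nonempty (Sylow 2 Qh) := inferInstance
  have hSφ : ∀ q : Q, ∃ s ∈ (S : Subgroup Qh), φ s = q := fun q => by
    have h1 : ((S.mapSurjective hφs : Sylow 2 Q) : Subgroup Q) = ⊤ :=
      ((S.mapSurjective hφs).is_maximal' (hQ2.to_subgroup ⊤) le_top).symm
    have h2 : q ∈ ((S.mapSurjective hφs : Sylow 2 Q) : Subgroup Q) := h1 ▸ Subgroup.mem_top q
    exact h2
  have hSn : (S : Subgroup Qh).Normal := ⟨fun s hs g => by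
    obtain ⟨s', hs', e⟩ := hSφ (φ g)
    have hzc : s'.1⁻¹ * g.1 ∈ Subgroup.center _ := QuotientGroup.eq.1 (congrArg Subtype.val e)
    have h2 : g * s * g⁻¹ = s' * s * s'⁻¹ := by
      refine Subtype.ext ?_
      have h3 := Subgroup.mem_center_iff.1 hzc s.1
      show g.1 * s.1 * g.1⁻¹ = s'.1 * s.1 * s'.1⁻¹
      calc g.1 * s.1 * g.1⁻¹ = s'.1 * ((s'.1⁻¹ * g.1) * s.1) * g.1⁻¹ := by group
        _ = s'.1 * (s.1 * (s'.1⁻¹ * g.1)) * g.1⁻¹ := by rw [h3]
        _ = _ := by group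
    rw [h2]
    exact mul_mem (mul_mem hs' hs) (inv_mem hs')⟩
  set TX : Subgroup (clX (cls D d) x) := (S : Subgroup Qh).map Qh.subtype with hTX
  have hTX2 : IsPGroup 2 TX := S.isPGroup'.map _
  have hTXQ : ∀ y ∈ TX, π y ∈ Q := by rintro _ ⟨s, -, rfl⟩; exact s.2
  have hTXi : ∀ y, π y ∈ Q → ∀ i : ℕ, y ^ 2 ^ i = 1 → y ∈ TX := fun y hy i hi => by
    set y' : Qh := ⟨y, hy⟩
    have hp : IsPGroup 2 (Subgroup.zpowers y') :=
      IsPGroup.of_card (n := Classical.choose ((Nat.dvd_prime_pow Nat.prime_two).1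
        (orderOf_dvd_of_pow_eq_one (show y' ^ 2 ^ i = 1 from Subtype.ext (by simpa using hi)))))
        (by
          rw [Nat.card_zpowers]
          exact (Classical.choose_spec ((Nat.dvd_prime_pow Nat.prime_two).1
            (orderOf_dvd_of_pow_eq_one (show y' ^ 2 ^ i = 1 from Subtype.ext (by simpa using hi))))).2)
    have h1 := S.is_maximal' (hp.to_sup_of_normal_right S.isPGroup') le_sup_right
    refine ⟨y', ?_, rfl⟩
    rw [← h1]
    exact Subgroup.mem_sup_left (Subgroup.mem_zpowers y')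
  have hlift : ∀ q ∈ Q, ∃ y ∈ TX, π y = q := fun q hq' => by
    obtain ⟨s, hs, e⟩ := hSφ ⟨q, hq'⟩
    exact ⟨s, ⟨s, hs, rfl⟩, congrArg Subtype.val e⟩
  have hTXfix : ∀ y ∈ TX, y • P = P := fun y hy =>
    (hmemP y).1 (RankOne.Basic.Q_fix hH.setup (hTXQ y hy))
  have hclsP : ∀ a (ha : a ∈ cls D d), (⟨a, mem_clX_left ha⟩ : clX (cls D d) x) ∈ P := fun a ha =>
    (hP _).2 (Or.inr ha)
  have hcent : ∀ z : clX (cls D d) x, z ∈ Subgroup.center _ → Cent (clX (cls D d) x) (z : G) :=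
    fun z hz e he => (congrArg Subtype.val (Subgroup.mem_center_iff.1 hz ⟨e, he⟩)).symm
  refine ⟨TX.map (clX (cls D d) x).subtype, f, ?_, hTX2.map _, ?_, ?_, ?_, f.2,
    congrArg Subtype.val (hC.sq f hf.1), congrArg Subtype.val hfe, ?_, ?_, ?_, ?_⟩
  · exact Subgroup.map_subtype_le _
  · intro a ha
    refine ⟨⟨a, mem_clX_left ha⟩, hTXi _ (RankOne.Basic.involutions_stab_mem_Q hH.setup
      ((hmemP _).2 (Conf.fix_of_mem (hclsP a ha))) ?_) 1 ?_, rfl⟩
    · rw [← map_mul, Conf.sq_mem (hclsP a ha), map_one]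
    · rw [pow_one, pow_two]
      exact Conf.sq_mem (hclsP a ha)
  · rintro _ ⟨g, hg, rfl⟩ a ha
    have haP := hclsP a ha
    set aX : clX (cls D d) x := ⟨a, mem_clX_left ha⟩ with haX
    have ha1 : aX ≠ 1 := hC.ne _ (hclsX a ha).1
    have hπa : π aX ≠ 1 := fun e =>
      hDZ _ (hclsX a ha).1 (hker ▸ (MonoidHom.mem_ker.2 e))
    have hcm : π aX * π g = π g * π aX :=
      (RankOne.Nilpotent.involution_central hH.setup hH.twoRank
        ⟨(hmemP _).2 (Conf.fix_of_mem haP), hπa, by rw [← map_mul, Conf.sq_mem haP, map_one]⟩).2 _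
        (hTXQ g hg)
    have hmem' : g * aX * g⁻¹ ∈ P := Conf.conj_mem_of_fix (hTXfix g hg) haP
    have hk : g * aX * g⁻¹ * aX ∈ π.ker := by
      rw [MonoidHom.mem_ker, map_mul, map_mul, map_mul, map_inv, ← hcm, mul_inv_cancel_right,
        ← map_mul, Conf.sq_mem haP, map_one]
    by_cases he : g * aX * g⁻¹ * aX = 1
    · have h1 : g * aX * g⁻¹ = aX := (eq_inv_of_mul_eq_one_left he).trans (Conf.inv_mem_eq haP)
      exact congrArg Subtype.val (mul_inv_eq_iff_eq_mul.1 h1)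
    · exact absurd (hker ▸ hk) (hDZ _ (Conf.mem_D (Conf.mul_mem_pt hmem' haP) he))
  · rintro s hs hsd _ ⟨g, hg, rfl⟩
    set sX : clX (cls D d) x := ⟨s, hs⟩ with hsX
    have hsP : sX • P = P := by
      refine Conf.smul_eq_of_mem hdP (hC.ne _ hGen.dmem) ((hP _).2 (Or.inr ?_))
      exact ⟨hsub _ (hGen.conj sX _ hGen.dmem), hsd.symm⟩
    obtain ⟨i, hi⟩ := hTX2 ⟨g, hg⟩
    refine ⟨sX * g * sX⁻¹, hTXi _ ?_ i ?_, rfl⟩
    · rw [map_mul, map_mul, map_inv]
      exact hH.setup.conj_mem _ ((hmemP sX).2 hsP) _ (hTXQ g hg)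
    · rw [conj_pow, show g ^ 2 ^ i = 1 by simpa using congrArg Subtype.val hi]
      group
  · intro σ hσ hσd
    set σX : clX (cls D d) x := ⟨σ, hσ⟩ with hσX
    set δ := σX • R with hδ
    have hσm : σX * xX * σX⁻¹ ∈ δ := Conf.conj_mem_smul hxR
    have hδP : δ ≠ P := fun e => by
      have hc : Commute (σX * xX * σX⁻¹) dX := Conf.commute_mem (e ▸ hσm) hdP
      exact hσd (congrArg Subtype.val hc.eq)
    obtain ⟨z, hz⟩ := Conf.exists_smul (Conf.qpt hQ P) (Conf.qpt hQ δ)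
    have hza : z • a₀ ≠ a₀ := fun e => hδP (hinj (hz.symm.trans ((hmem z).1 e)))
    obtain ⟨q, hqQ, hqe⟩ :=
      RankOne.Basic.Q_trans hH.setup (RankOne.Basic.t_smul_ne hH.setup) hza
    rw [← mul_smul, ← inv_smul_eq_iff, ← mul_smul, hmem, mul_smul, inv_smul_eq_iff, hz, mul_smul,
      hfQ.2] at hqe
    obtain ⟨g, hg, rfl⟩ := hlift q hqQ
    rw [Conf.qpt_smul] at hqe
    have hgR : g • R = δ := hinj hqe
    refine ⟨g, ⟨g, hg, rfl⟩, ?_⟩
    exact heq (g * xX * g⁻¹) (hGen.conj g _ hGen.xmem) (σX * xX * σX⁻¹)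
      (hGen.conj σX _ hGen.xmem) (Conf.commute_mem (hgR ▸ Conf.conj_mem_smul hxR) hσm)
  · set E := RankOneCore.invSub hH.setup hH.twoRank with hE
    obtain ⟨y, hy, hyE⟩ : ∃ y ∈ Q, ¬ (y * y = 1) := by
      by_contra hall
      push Not at hall
      have hle : SetLike.coe Q ⊆ insert 1 (BenderSuzuki.invs _ a₀) := fun y hy => by
        by_cases h1 : y = 1
        · exact Or.inl h1
        · exact Or.inr ⟨RankOne.Basic.Q_fix hH.setup hy, h1, hall y hy⟩
      have h1 := Set.ncard_le_ncard hle (Set.toFinite _)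
      rw [Set.ncard_insert_of_notMem (fun hh => hh.2.1 rfl) (Set.toFinite _),
        ← Nat.card_coe_set_eq, ← Nat.card_coe_set_eq] at h1
      rw [SetLike.coe_sort_coe, hQcard, hq, hcardP] at h1
      have h4 := Conf.four_le P
      have h2 : BenderSuzuki.qNum _ a₀ = Nat.card P.1 := hq.trans hcardP
      unfold BenderSuzuki.qNum at h2
      rw [h2] at h1
      nlinarith
    obtain ⟨g, hg, rfl⟩ := hlift y hy
    have h2 : π (g * g) ∈ BenderSuzuki.invs _ a₀ := by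
      have h3 := Rigid.sq_mem_invSub hH hQ2 hQcard hy
      rw [← map_mul] at hyE h3
      exact ⟨h3.1, hyE, h3.2⟩
    rw [hinv] at h2
    obtain ⟨b, hb, e⟩ := Conf.exists_of_mem_qpt hker.le h2.1
    have hb1 : b ≠ 1 := fun e' => h2.2 (by rw [← e, e', map_one])
    have hbc : (b : G) ∈ cls D d := ((hP b).1 hb).resolve_left fun e' => hb1 (Subtype.ext e')
    refine ⟨g, ⟨g, hg, rfl⟩, b, hbc, ((b⁻¹ * (g * g) : clX (cls D d) x) : G),
      hcent _ (QuotientGroup.eq.1 e), ?_⟩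
    simp
  · rintro _ ⟨g, hg, rfl⟩
    have h3 := Rigid.sq_mem_invSub hH hQ2 hQcard (hTXQ g hg)
    rw [← map_mul] at h3
    by_cases h1 : π (g * g) = 1
    · right
      by_cases h4 : π g = 1
      · exact ⟨1, Or.inl rfl, g, hcent g (hker ▸ MonoidHom.mem_ker.2 h4), (one_mul _).symm⟩
      have h2 : π g ∈ BenderSuzuki.invs _ a₀ :=
        ⟨RankOne.Basic.Q_fix hH.setup (hTXQ g hg), h4, by rw [← map_mul]; exact h1⟩
      rw [hinv] at h2
      obtain ⟨b, hb, e⟩ := Conf.exists_of_mem_qpt hker.le h2.1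
      refine ⟨b, (hP b).1 hb, ((b⁻¹ * g : clX (cls D d) x) : G), hcent _ (QuotientGroup.eq.1 e), ?_⟩
      simp
    · left
      have h2 : π (g * g) ∈ BenderSuzuki.invs _ a₀ := ⟨h3.1, h1, h3.2⟩
      rw [hinv] at h2
      obtain ⟨b, hb, e⟩ := Conf.exists_of_mem_qpt hker.le h2.1
      have hb1 : b ≠ 1 := fun e' => h2.2 (by rw [← e, e', map_one])
      have hbc : (b : G) ∈ cls D d := ((hP b).1 hb).resolve_left fun e' => hb1 (Subtype.ext e')
      refine ⟨b, hbc, ((b⁻¹ * (g * g) : clX (cls D d) x) : G), hcent _ (QuotientGroup.eq.1 e), ?_⟩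
      simp
  · obtain ⟨s₁, hs₁⟩ := RankOne.Basic.exists_involution hH.setup
    obtain ⟨b, hb, hb1, hbd⟩ := Conf.exists_other P (a := dX)
    have hbI : ∀ c ∈ P, c ≠ 1 → π c ∈ BenderSuzuki.invs _ a₀ := fun c hc hc1 => by
      rw [hinv]
      exact ⟨Conf.mem_qpt hc, fun e => hDZ _ (Conf.mem_D hc hc1) (hker ▸ MonoidHom.mem_ker.2 e)⟩
    obtain ⟨k₀, ⟨hk₀, hk₀e⟩, -⟩ := RankOne.Basic.existsUnique_K hH.setup
      (hbI dX hdP (hC.ne _ hGen.dmem)) (hbI b hb hb1)
    have hk₀1 : k₀ ≠ 1 := fun e => by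
      rw [e, one_mul, inv_one, mul_one] at hk₀e
      have hm : b * dX ∈ π.ker := by
        rw [MonoidHom.mem_ker, map_mul, ← hk₀e, ← map_mul, Conf.sq_mem hdP, map_one]
      have hbd1 : b * dX ≠ 1 := fun e' =>
        hbd ((eq_inv_of_mul_eq_one_left e').trans (Conf.inv_mem_eq hdP))
      exact hDZ _ (Conf.mem_D (Conf.mul_mem_pt hb hdP) hbd1) (hker ▸ hm)
    obtain ⟨k₁, hk₁⟩ := hsurj k₀
    obtain ⟨i, m, hm, hkm⟩ := Nat.exists_eq_two_pow_mul_odd (orderOf_pos k₁).ne'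
    set k := k₁ ^ 2 ^ i with hk
    have hkodd : Odd (orderOf k) := by
      rw [hk, orderOf_pow_of_dvd (by positivity) (hkm ▸ dvd_mul_right _ _), hkm,
        Nat.mul_div_cancel_left _ (by positivity)]
      exact hm
    have hk0 : orderOf k₀ ∣ 2 ^ i * m := by
      rw [← hkm, ← hk₁]
      exact orderOf_map_dvd π k₁
    have hk0odd : Odd (orderOf k₀) := by
      have h1 : orderOf k₀ ∣ Nat.card (RankOne.Basic.twoStab _ a₀ (π f)) :=
        Subgroup.orderOf_dvd_natCard _ hk₀.1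
      exact hH.setup.odd_card.of_dvd_nat h1
    have hkb : π k ≠ 1 := fun e => by
      rw [hk, map_pow, hk₁] at e
      exact hk₀1 (orderOf_eq_one_iff.1 (Nat.Coprime.eq_one_of_dvd
        (Nat.Coprime.pow_right _ (Nat.coprime_two_right.2 hk0odd)) (orderOf_dvd_of_pow_eq_one e)))
    have hkS' : π k ∈ RankOne.Basic.twoStab _ a₀ (π f) := by
      rw [hk, map_pow, hk₁]
      exact pow_mem hk₀.1 _
    have hkinv : π k ∈ BenderSuzuki.kSet a₀ (π f) := hkS ▸ hkS'
    have hkP : k • P = P := (hmemP k).1 (RankOne.Basic.mem_twoStab.1 hkS').1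
    refine ⟨k, k.2, by rw [Subgroup.orderOf_coe]; exact hkodd, ?_, ?_⟩
    · have h1 := Conf.conj_mem_of_fix hkP hdP
      exact heq (k * dX * k⁻¹) (hGen.conj k _ hGen.dmem) dX hGen.dmem (Conf.commute_mem h1 hdP)
    rintro _ ⟨w, hw, rfl⟩
    set θ : Q → Q := fun y => ⟨(y : _)⁻¹ * (π k * y * (π k)⁻¹),
      Q.mul_mem (Q.inv_mem y.2) (RankOne.Basic.twoStab_norm hH.setup hkS' y.2)⟩ with hθ
    have hfixk : ∀ u ∈ Q, π k * u * (π k)⁻¹ = u → u = 1 := by
      intro u hu hfix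
      by_contra hu1
      have hone : (1 : _) ∈ Cfsg.invertedBy (RankOne.Basic.twoStab _ a₀ (π f)) (π f) :=
        ⟨one_mem _, by simp⟩
      have key : ∀ s ∈ Q, s ≠ 1 → s * s = 1 → π k * s * (π k)⁻¹ = s → False :=
        fun s hs hs1 hs2 he => hkb ((RankOne.Basic.existsUnique_K hH.setup
          ⟨RankOne.Basic.Q_fix hH.setup hs, hs1, hs2⟩
          ⟨RankOne.Basic.Q_fix hH.setup hs, hs1, hs2⟩).unique ⟨hkinv, he⟩ ⟨hone, by simp⟩)
      by_cases h2 : u * u = 1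
      · exact key u hu hu1 h2 hfix
      · refine key (u * u) (Q.mul_mem hu hu) h2 (Rigid.sq_mem_invSub hH hQ2 hQcard hu).2 ?_
        conv_rhs => rw [← hfix]
        group
    have hθi : Function.Injective θ := by
      rintro ⟨y, hy⟩ ⟨y', hy'⟩ e
      have e' : y⁻¹ * (π k * y * (π k)⁻¹) = y'⁻¹ * (π k * y' * (π k)⁻¹) := congrArg Subtype.val e
      refine Subtype.ext (mul_inv_eq_one.1 (hfixk _ (Q.mul_mem hy (Q.inv_mem hy')) ?_))
      calc π k * (y * y'⁻¹) * (π k)⁻¹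
          = y * (y⁻¹ * (π k * y * (π k)⁻¹)) * (π k * y' * (π k)⁻¹)⁻¹ := by group
        _ = y * y'⁻¹ := by rw [e']; group
    obtain ⟨⟨y, hy⟩, hye⟩ := (Finite.injective_iff_surjective.1 hθi) ⟨π w, hTXQ w hw⟩
    obtain ⟨yX, hyX, rfl⟩ := hlift y hy
    refine ⟨yX, ⟨yX, hyX, rfl⟩, (((yX⁻¹ * (k * yX * k⁻¹))⁻¹ * w : clX (cls D d) x) : G),
      hcent _ (QuotientGroup.eq.1 ?_), ?_⟩
    · exact (show π (yX⁻¹ * (k * yX * k⁻¹)) = π w by
        rw [map_mul, map_mul, map_mul, map_inv, map_inv]; exact congrArg Subtype.val hye)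
    · simp [mul_assoc]

end Root

end Cfsg.Agent.Lib.OddTransp84
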